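import Mathlib
import Cfsg.Agent.FixBN.Par
import Cfsg.Agent.Tits.Exchange
import Cfsg.Agent.FixBN.OfBN
import Cfsg.Agent.Mrg.ParSys.Fam.TwoFFour
import Cfsg.Agent.KFacts.TwF4.Full
import Cfsg.Agent.KFacts.TwF4.Torus
import Cfsg.Agent.KFacts.TwF4.CentZ
import Cfsg.Agent.S1113
import Cfsg.Agent.S0030
import Cfsg.Agent.Lib.ProductSet
import Cfsg.Agent.H27.AH.Defs_m3
import Cfsg.Agent.LieRecognition.RankOneAbstract
import Cfsg.Agent.KFacts.TwF4.AutNorm
import Cfsg.Agent.KFacts.TwF4.Perf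
import Cfsg.Agent.KFacts.TwF4.TorFix
import Cfsg.Agent.KFacts.TwF4.SylU
import Cfsg.Agent.H762.CHyp
import Cfsg.Agent.H979.LieSplit
import Cfsg.Agent.FastGrp
import Cfsg.Agent.Prune
set_option linter.all false

section
prune_inst 0x7ffcfefbaffcaddfffff7e7ffedddfffb9fcffffffdffbfbfff4e1ffafdf6b8ab9edfb85fde058ff0ef7e29630b87813f9ffea3fef6bdc7ffffd5ff41ffbee1fe5feb78d51d5a83e0fbc6fff93f17fce7f3fffffffffffffffffffffffffffbeffffffffffff

-- part: H197/Cls/DisW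
section
prune_inst 0x201004001122000000180012220004401000000200400000b1e00502010654612043a021f8600f1081128864203e8060015c0109423000002a008600411c01a0148222c2a1481104210006c0e803180c00000000000000000000000000041000000000000
set_option linter.all false
open scoped Cfsg.Agent.FastGrp

-- part: H197/Cls/Basic
section
/-!
# S2451 (products of two classes which are a class), helper197: basic facts on `FixBN.Sys`

* `PE p g` : `g` is a `p`-element; it fixes a chamber, a chamber of each invariant residue, and one or all chambers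
  of an invariant panel;
* `exists_smul`, `exists_smul_pair` : strong transitivity;
* `Good p a b` : all products `a * (g * b * g⁻¹)` are `p`-elements;
* `Dis Δ a b` : the common displacements of `a⁻¹` and `b`.
-/

set_option autoImplicit false
set_option linter.unusedSectionVars false

open scoped Pointwise

namespace Cfsg.Agent.H197.Cls

open Cfsg.Agent.Tits.Core Cfsg.Agent.Tits.Core.Bldg Cfsg.Agent.Tits.Exchange Cfsg.Agent.Tits Cfsg.Agent.FixBN

variable {I : Type*} {M : CoxeterMatrix I} {W : Type*} [Group W] {cs : CoxeterSystem M W} {C : Type*}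

local prefix:100 "ℓ" => cs.length

/-- `g` is a `p`-element -/
def PE {G : Type*} [Group G] (p : ℕ) (g : G) : Prop := ∃ k : ℕ, g ^ p ^ k = 1

theorem PE.isPGroup {G : Type*} [Group G] {p : ℕ} [hp : Fact p.Prime] {g : G} (h : PE p g) :
    IsPGroup p (Subgroup.zpowers g) := by
  obtain ⟨k, hk⟩ := h
  obtain ⟨j, -, hj⟩ := (Nat.dvd_prime_pow hp.out).1 (orderOf_dvd_of_pow_eq_one hk)
  exact IsPGroup.of_card (n := j) (by rw [Nat.card_zpowers, hj])

theorem PE.conj {G : Type*} [Group G] {p : ℕ} {g : G} (h : PE p g) (x : G) : PE p (x * g * x⁻¹) := by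
  obtain ⟨k, hk⟩ := h
  exact ⟨k, by rw [conj_pow, hk, mul_one, mul_inv_cancel]⟩

/-- all products of `a` with a conjugate of `b` are `p`-elements -/
def Good {G : Type*} [Group G] (p : ℕ) (a b : G) : Prop := ∀ g : G, PE p (a * (g * b * g⁻¹))

namespace Good

variable {G : Type*} [Group G] {p : ℕ} {a b : G}

theorem conjR (h : Good p a b) (x : G) : Good p a (x * b * x⁻¹) := by
  intro g
  have h1 := h (g * x)
  have e : a * (g * x * b * (g * x)⁻¹) = a * (g * (x * b * x⁻¹) * g⁻¹) := by group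
  rwa [e] at h1

theorem mul (h : Good p a b) : PE p (a * b) := by
  have := h 1
  simpa using this

theorem swap (h : Good p a b) : Good p b a := by
  intro g
  have h1 := (h g⁻¹).conj a⁻¹
  have h2 := h1.conj g
  have e : g * (a⁻¹ * (a * (g⁻¹ * b * g⁻¹⁻¹)) * a⁻¹⁻¹) * g⁻¹ = b * (g * a * g⁻¹) := by group
  rwa [e] at h2

theorem conjL (h : Good p a b) (x : G) : Good p (x * a * x⁻¹) b := (h.swap.conjR x).swap

theorem inv (h : Good p a b) : Good p b⁻¹ a⁻¹ := by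
  intro g
  obtain ⟨k, hk⟩ := h.swap g
  have h1 : (b * (g * a * g⁻¹))⁻¹ ^ p ^ k = 1 := by rw [inv_pow, hk, inv_one]
  have h2 : PE p ((b * (g * a * g⁻¹))⁻¹) := ⟨k, h1⟩
  have h3 := h2.conj ((g * a * g⁻¹))
  have e : g * a * g⁻¹ * (b * (g * a * g⁻¹))⁻¹ * (g * a * g⁻¹)⁻¹ = b⁻¹ * (g * a⁻¹ * g⁻¹) := by group
  rwa [e] at h3

end Good

variable {Δ : Bldg cs C} {G : Type*} [Group G] [MulAction G C] {p : ℕ} (S : Sys Δ G p)

include S

theorem smul_Pan (g : G) (i : I) (x : C) : g • Δ.Pan i x = Δ.Pan i (g • x) := by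
  rw [Pan_eq_Res, Pan_eq_Res, S.smul_Res]

theorem smul_mem_Pan {g : G} {i : I} {x y : C} (h : y ∈ Δ.Pan i x) : g • y ∈ Δ.Pan i (g • x) := by
  rw [Pan_eq_Res] at h ⊢
  exact S.smul_mem_Res h

theorem smul_isProj {g : G} {J : Set I} {x u q : C} (h : Δ.IsProj J x u q) :
    Δ.IsProj J (g • x) (g • u) (g • q) := by
  rw [Δ.isProj_iff] at h ⊢
  exact ⟨S.smul_mem_Res h.1, by rw [S.iso]; exact h.2⟩

variable [hp : Fact p.Prime]

theorem exists_fixed {g : G} (hg : PE p g) : ∃ x : C, g • x = x := by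
  obtain ⟨x, hx⟩ := S.exists_fix _ hg.isPGroup
  exact ⟨x, hx g (Subgroup.mem_zpowers g)⟩

theorem mem_U {g : G} (hg : PE p g) {x : C} (hx : g • x = x) : g ∈ S.U x :=
  S.mem_U_of_isPGroup hg.isPGroup (Subgroup.mem_zpowers g) hx

/-- a `p`-element fixes a chamber of each invariant residue -/
theorem exists_fixed_res {g : G} (hg : PE p g) {J : Set I} {x : C} (h : g • x ∈ Δ.Res J x) :
    ∃ y ∈ Δ.Res J x, g • y = y := by
  obtain ⟨u, hu⟩ := exists_fixed S hg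
  obtain ⟨y, hy⟩ := Δ.exists_isProj J x u
  refine ⟨y, hy.mem, ?_⟩
  have h1 := smul_isProj S (g := g) hy
  rw [hu, Δ.isProj_congr h] at h1
  exact h1.unique hy

theorem exists_fixed_pan {g : G} (hg : PE p g) {i : I} {x : C} (h : g • x ∈ Δ.Pan i x) :
    ∃ y ∈ Δ.Pan i x, g • y = y := by
  rw [Pan_eq_Res] at h ⊢
  exact exists_fixed_res S hg h

/-- a `p`-element fixing two chambers of a panel fixes the panel -/
theorem fix_pan {g : G} {i : I} {x y z : C} (hg : g ∈ S.U x) (hy : y ∈ Δ.Pan i x) (hxy : y ≠ x)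
    (hgy : g • y = y) (hz : z ∈ Δ.Pan i x) : g • z = z := by
  rcases hy with rfl | hy
  · exact absurd rfl hxy
  · exact S.pan x y i hy g hg hgy z hz

section Trans

variable [F : OppRes.Cox cs]

omit hp in
/-- transitivity on the chambers -/
theorem exists_smul (hth : Δ.Thick) (x y : C) : ∃ g : G, g • x = y := by
  have key : ∀ (w : W) (x y : C), Δ.δ x y = w → ∃ g : G, g • x = y := by
    intro w
    induction w using cs.simple_induction_right with
    | one =>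
      intro x y h
      exact ⟨1, by rw [one_smul]; exact Δ.eq_of_δ_eq_one h⟩
    | mul_simple_right w i ih =>
      intro x y h
      obtain ⟨z, hz, hz'⟩ := Δ.exists_step x y i
      have h1 : Δ.δ x z = w := by rw [hz', h, mul_assoc, cs.simple_mul_simple_self, mul_one]
      obtain ⟨g, hg⟩ := ih x z h1
      -- a third chamber of the panel of `y`, `z`
      obtain ⟨a, b, hab, ha, hb⟩ := hth y i
      obtain ⟨c, hc, hcz⟩ : ∃ c, Δ.δ y c = cs.simple i ∧ c ≠ z := by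
        rcases eq_or_ne a z with rfl | h2
        · exact ⟨b, hb, fun h => hab h.symm⟩
        · exact ⟨a, ha, h2⟩
      have hcz' : Δ.δ c z = cs.simple i :=
        Δ.δ_eq_of_mem_Pan (Δ.mem_Pan_of_δ hc) (Δ.mem_Pan_of_δ hz) hcz
      obtain ⟨u, -, huz⟩ := S.exists_move (x := c) (z := z) (z' := y)
        (by rw [hcz', Δ.δ_symm_simple hc])
      exact ⟨u * g, by rw [mul_smul, hg, huz]⟩
  exact key _ x y rfl

omit hp in
theorem exists_smul_pair (hth : Δ.Thick) {x y x' y' : C} (h : Δ.δ x y = Δ.δ x' y') :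
    ∃ g : G, g • x = x' ∧ g • y = y' := by
  obtain ⟨g, hg⟩ := exists_smul S hth x x'
  obtain ⟨u, hu, huy⟩ := S.exists_move (x := x') (z := g • y) (z' := y')
    (by rw [← h, ← S.iso g x y, hg])
  exact ⟨u * g, by rw [mul_smul, hg, S.fix x' u hu], by rw [mul_smul, huy]⟩

end Trans

omit S hp in
/-- the common displacements of `a⁻¹` and `b` -/
def Dis (Δ : Bldg cs C) (a b : G) : Set W :=
  {w | (∃ c, Δ.δ c (a⁻¹ • c) = w) ∧ ∃ c, Δ.δ c (b • c) = w}

theorem dis_nonempty {a b : G} (h : Good p a b) : (Dis Δ a b).Nonempty := by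
  obtain ⟨c, hc⟩ := exists_fixed S h.mul
  have h1 : b • c = a⁻¹ • c := by rw [eq_inv_smul_iff, ← mul_smul, hc]
  exact ⟨Δ.δ c (b • c), ⟨c, by rw [h1]⟩, ⟨c, rfl⟩⟩

omit hp in
/-- conjugating `b` one can reach a common chamber -/
theorem exists_pair [F : OppRes.Cox cs] (hth : Δ.Thick) {a b : G} {w : W} (hw : w ∈ Dis Δ a b) :
    ∃ (g : G) (c : C), Δ.δ c (a⁻¹ • c) = w ∧ (g * b * g⁻¹) • c = a⁻¹ • c := by
  obtain ⟨⟨c, hc⟩, d, hd⟩ := hw
  obtain ⟨g, hg1, hg2⟩ := exists_smul_pair S hth (x := d) (y := b • d) (x' := c) (y' := a⁻¹ • c)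
    (by rw [hc, hd])
  refine ⟨g, c, hc, ?_⟩
  rw [mul_smul, mul_smul, ← hg2]
  congr 2
  rw [inv_smul_eq_iff, hg1]

omit hp in
theorem dis_conj {a b : G} (g : G) : Dis Δ a (g * b * g⁻¹) = Dis Δ a b := by
  have key : ∀ (b g : G) (w : W), (∃ c, Δ.δ c (b • c) = w) → ∃ c, Δ.δ c ((g * b * g⁻¹) • c) = w := by
    rintro b g w ⟨c, hc⟩
    refine ⟨g • c, ?_⟩
    rw [mul_smul, mul_smul, inv_smul_smul, S.iso, hc]
  ext w
  constructor
  · rintro ⟨h1, h2⟩
    refine ⟨h1, ?_⟩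
    have h3 := key _ g⁻¹ w h2
    have e : g⁻¹ * (g * b * g⁻¹) * g⁻¹⁻¹ = b := by group
    rwa [e] at h3
  · rintro ⟨h1, h2⟩
    exact ⟨h1, key _ g w h2⟩

omit hp in
theorem mem_dis {a b : G} {c : C} (h : b • c = a⁻¹ • c) : Δ.δ c (b • c) ∈ Dis Δ a b :=
  ⟨⟨c, by rw [h]⟩, c, rfl⟩

end Cfsg.Agent.H197.Cls
end

-- part: H197/Cls/LemY
section
/-!
# S2451, helper197: Lemma Y

Two panels which are not parallel: `x0`, `y0` their gates, `m = δ x0 y0`. If `b` and `a⁻¹` map the panel of `x0` to the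
panel of `y0` and all products of `a` with conjugates of `b` are `p`-elements, then `a • y0 = x0`, `b • x0 = y0`.
Consequence: `Dis Δ a b` is invariant under conjugation, and `s_i v s_i` has another length than `v` if it is not `v`.
-/

set_option autoImplicit false
set_option linter.unusedSectionVars false

open scoped Pointwise

namespace Cfsg.Agent.H197.Cls

open Cfsg.Agent.Tits.Core Cfsg.Agent.Tits.Core.Bldg Cfsg.Agent.Tits.Exchange Cfsg.Agent.Tits Cfsg.Agent.FixBN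

variable {I : Type*} {M : CoxeterMatrix I} {W : Type*} [Group W] {cs : CoxeterSystem M W} {C : Type*}

local prefix:100 "ℓ" => cs.length

/-- `x0`, `y0` are the gates of two `i`-panels which are not parallel -/
structure NP (Δ : Bldg cs C) (i : I) (x0 y0 : C) : Prop where
  left : ℓ (Δ.δ x0 y0) < ℓ (cs.simple i * Δ.δ x0 y0)
  right : ℓ (Δ.δ x0 y0) < ℓ (Δ.δ x0 y0 * cs.simple i)
  ne : cs.simple i * Δ.δ x0 y0 ≠ Δ.δ x0 y0 * cs.simple i

namespace NP

variable {Δ : Bldg cs C} {i : I} {x0 y0 : C}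

theorem len (h : NP Δ i x0 y0) : ℓ (cs.simple i * Δ.δ x0 y0 * cs.simple i) = ℓ (Δ.δ x0 y0) + 2 := by
  have h1 : ℓ (cs.simple i * Δ.δ x0 y0) = ℓ (Δ.δ x0 y0) + 1 := by
    have := cs.length_simple_mul (Δ.δ x0 y0) i
    have := h.left
    omega
  have h2 : ℓ (Δ.δ x0 y0 * cs.simple i) = ℓ (Δ.δ x0 y0) + 1 := by
    have := cs.length_mul_simple (Δ.δ x0 y0) i
    have := h.right
    omega
  rcases fold cs h1 h2 with h3 | h3
  · exact h3
  · exact absurd h3 h.ne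

theorem dL (h : NP Δ i x0 y0) {x : C} (hx : x ∈ Δ.Pan i x0) (hne : x ≠ x0) :
    Δ.δ x y0 = cs.simple i * Δ.δ x0 y0 :=
  Δ.step_lt_left (Δ.δ_eq_of_mem_Pan hx (Δ.self_mem_Pan i x0) hne) h.left

theorem dR (h : NP Δ i x0 y0) {y : C} (hy : y ∈ Δ.Pan i y0) (hne : y ≠ y0) :
    Δ.δ x0 y = Δ.δ x0 y0 * cs.simple i :=
  Δ.step_lt x0 y0 y i (Δ.δ_eq_of_mem_Pan (Δ.self_mem_Pan i y0) hy hne.symm) h.right

theorem dLR (h : NP Δ i x0 y0) {x y : C} (hx : x ∈ Δ.Pan i x0) (hxne : x ≠ x0) (hy : y ∈ Δ.Pan i y0) (hyne : y ≠ y0) :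
    Δ.δ x y = cs.simple i * Δ.δ x0 y0 * cs.simple i := by
  have h1 := h.len
  have h2 : ℓ (cs.simple i * Δ.δ x0 y0) = ℓ (Δ.δ x0 y0) + 1 := by
    have := cs.length_simple_mul (Δ.δ x0 y0) i
    have := h.left
    omega
  have h3 := Δ.step_lt x y0 y i (Δ.δ_eq_of_mem_Pan (Δ.self_mem_Pan i y0) hy hyne.symm)
    (by rw [h.dL hx hxne]; omega)
  rw [h3, h.dL hx hxne]

theorem swap (h : NP Δ i x0 y0) : NP Δ i y0 x0 := by
  have e : Δ.δ y0 x0 = (Δ.δ x0 y0)⁻¹ := Δ.symm x0 y0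
  refine ⟨?_, ?_, ?_⟩
  · rw [e, cs.length_inv, ← cs.length_inv (cs.simple i * _), mul_inv_rev, inv_inv, cs.inv_simple]
    exact h.right
  · rw [e, cs.length_inv, ← cs.length_inv (_ * cs.simple i), mul_inv_rev, inv_inv, cs.inv_simple]
    exact h.left
  · intro h1
    apply h.ne
    rw [e] at h1
    have h2 := congrArg (fun z => z⁻¹) h1
    simp only [mul_inv_rev, inv_inv, cs.inv_simple] at h2
    exact h2.symm

/-- the gate of `x` in the panel of `y0` -/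
theorem eq_gate (h : NP Δ i x0 y0) {x y : C} (hx : x ∈ Δ.Pan i x0) (hxne : x ≠ x0) (hy : y ∈ Δ.Pan i y0)
    (hd : Δ.δ x y = cs.simple i * Δ.δ x0 y0) : y = y0 := by
  by_contra hne
  have h1 := h.dLR hx hxne hy hne
  rw [hd] at h1
  have h2 := congrArg cs.length h1
  rw [h.len] at h2
  have h3 := cs.length_simple_mul (Δ.δ x0 y0) i
  omega

theorem eq_gate0 (h : NP Δ i x0 y0) {x : C} (hx : x ∈ Δ.Pan i x0) (hd : Δ.δ x y0 = Δ.δ x0 y0) : x = x0 := by
  by_contra hne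
  have h1 := h.dL hx hne
  rw [hd] at h1
  have h2 := congrArg cs.length h1
  have h3 := h.left
  omega

end NP

variable {Δ : Bldg cs C} {G : Type*} [Group G] [MulAction G C] {p : ℕ} (S : Sys Δ G p)

/-- existence of the gates -/
theorem exists_np {x y : C} {i : I} (hne : cs.simple i * Δ.δ x y ≠ Δ.δ x y * cs.simple i) :
    ∃ x0 ∈ Δ.Pan i x, ∃ y0 ∈ Δ.Pan i y, NP Δ i x0 y0 := by
  -- first the gate of `x` in the panel of `y`
  obtain ⟨y0, hy0⟩ := Δ.exists_isProj {i} y x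
  obtain ⟨x0, hx0⟩ := Δ.exists_isProj {i} x y0
  have hx0' : x0 ∈ Δ.Pan i x := by rw [Pan_eq_Res]; exact hx0.mem
  have hy0' : y0 ∈ Δ.Pan i y := by rw [Pan_eq_Res]; exact hy0.mem
  -- minimality on the left
  have hL : ℓ (Δ.δ x0 y0) < ℓ (cs.simple i * Δ.δ x0 y0) := by
    have h1 := (isMinR_iff cs).1 hx0.isMinR i rfl
    rw [← cs.length_inv, ← cs.length_inv (Δ.δ y0 x0 * _), mul_inv_rev, cs.inv_simple, ← Δ.symm y0 x0] at h1
    exact h1
  have hR0 := (isMinR_iff cs).1 hy0.isMinR i rfl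
  -- `δ x y0` is `δ x0 y0` or `s_i δ x0 y0`
  have hxy0 : Δ.δ x y0 = Δ.δ x0 y0 ∨ Δ.δ x y0 = cs.simple i * Δ.δ x0 y0 := by
    rcases eq_or_ne x x0 with rfl | h1
    · left; rfl
    · rcases Δ.step_left (z := y0) (Δ.δ_eq_of_mem_Pan (Δ.self_mem_Pan i x) hx0' h1) with h2 | h2
      · right; exact h2
      · left; exact h2
  have hR : ℓ (Δ.δ x0 y0) < ℓ (Δ.δ x0 y0 * cs.simple i) := by
    rcases hxy0 with h1 | h1
    · rw [h1] at hR0; exact hR0
    · by_contra hcon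
      rw [h1] at hR0
      have h2 := cs.length_mul_simple (Δ.δ x0 y0) i
      have h3 := cs.length_simple_mul (Δ.δ x0 y0) i
      have h4 := cs.length_mul_simple (cs.simple i * Δ.δ x0 y0) i
      have h5 := cs.length_simple_mul (Δ.δ x0 y0 * cs.simple i) i
      rw [← mul_assoc] at h5
      omega
  refine ⟨x0, hx0', y0, hy0', hL, hR, fun heq => hne ?_⟩
  -- then all elements of the double coset commute with `s_i`
  have hss : cs.simple i * cs.simple i = 1 := cs.simple_mul_simple_self i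
  have hxy : Δ.δ x y = Δ.δ x y0 ∨ Δ.δ x y = Δ.δ x y0 * cs.simple i := by
    rcases eq_or_ne y0 y with rfl | h1
    · left; rfl
    · rcases Δ.step x y0 y i (Δ.δ_eq_of_mem_Pan hy0' (Δ.self_mem_Pan i y) h1) with h2 | h2
      · right; exact h2
      · left; exact h2
  have e0 : cs.simple i * Δ.δ x y0 = Δ.δ x y0 * cs.simple i := by
    rcases hxy0 with h1 | h1
    · rw [h1, heq]
    · rw [h1, mul_assoc (cs.simple i) (Δ.δ x0 y0), ← heq]
  rcases hxy with h1 | h1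
  · rw [h1, e0]
  · rw [h1, ← mul_assoc, e0]

include S

variable [hp : Fact p.Prime] [F : OppRes.Cox cs]

/-- an element of `U x`, `x` in the panel of `x0`, not `x0`, preserving the panel of `y0` fixes `x0`, `y0`
and the panel of `x0` -/
theorem fix_of_np {i : I} {x0 y0 x : C} (h : NP Δ i x0 y0) (hx : x ∈ Δ.Pan i x0) (hxne : x ≠ x0) {u : G}
    (hu : u ∈ S.U x) (huy : u • y0 ∈ Δ.Pan i y0) : u • y0 = y0 ∧ u • x0 = x0 ∧ ∀ z ∈ Δ.Pan i x0, u • z = z := by
  have hux := S.fix x u hu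
  have h1 : u • y0 = y0 := by
    refine h.eq_gate hx hxne huy ?_
    have h2 := S.iso u x y0
    rw [hux] at h2
    rw [h2, h.dL hx hxne]
  have h2 : u • x0 = x0 := by
    refine h.eq_gate0 ?_ ?_
    · have h3 := smul_mem_Pan S (g := u) (Δ.mem_Pan_symm hx)
      rw [hux] at h3
      rw [← Δ.Pan_eq_of_mem hx]
      exact h3
    · have h3 := S.iso u x0 y0
      rw [h1] at h3
      exact h3
  refine ⟨h1, h2, fun z hz => ?_⟩
  refine fix_pan S hu (Δ.mem_Pan_symm hx) (Ne.symm hxne) h2 ?_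
  rw [Δ.Pan_eq_of_mem hx]
  exact hz

/-- the counting argument -/
theorem lemY1 [Finite C] (hth : Δ.Thick) {a b : G} (hab : Good p a b) {i : I} {x0 y0 : C} (h : NP Δ i x0 y0)
    (hb : b • x0 ∈ Δ.Pan i y0) (ha : a • y0 ∈ Δ.Pan i x0) : b • a • y0 = y0 := by
  classical
  by_contra hcon
  -- a chamber `c1 ≠ x0` of the panel of `x0`, a chamber `d1 ≠ y0` of the panel of `y0`
  obtain ⟨c1, -, -, hc1, -⟩ := hth x0 i
  have hc1p : c1 ∈ Δ.Pan i x0 := Δ.mem_Pan_of_δ hc1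
  have hc1n : c1 ≠ x0 := (Δ.ne_of_δ_simple hc1).symm
  have hbP : ∀ x ∈ Δ.Pan i x0, b • x ∈ Δ.Pan i y0 := fun x hx =>
    Δ.mem_Pan_trans hb (smul_mem_Pan S hx)
  have haP : ∀ y ∈ Δ.Pan i y0, a • y ∈ Δ.Pan i x0 := fun y hy =>
    Δ.mem_Pan_trans ha (smul_mem_Pan S hy)
  set e1 := b • a • y0 with he1
  have he1P : e1 ∈ Δ.Pan i y0 := hbP _ ha
  -- for each `d ≠ y0` of the panel an element `u`
  have hex : ∀ d : {d : C // d ∈ Δ.Pan i y0 ∧ d ≠ y0}, ∃ u ∈ S.U c1, u • e1 = d.1 := by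
    rintro ⟨d, hd, hdn⟩
    refine S.exists_move ?_
    rw [h.dLR hc1p hc1n hd hdn, h.dLR hc1p hc1n he1P hcon]
  choose u hu hue using hex
  have hufix : ∀ d, u d • y0 = y0 ∧ u d • x0 = x0 ∧ ∀ z ∈ Δ.Pan i x0, u d • z = z := by
    intro d
    refine fix_of_np S h hc1p hc1n (hu d) ?_
    have h1 := smul_mem_Pan S (g := u d) (Δ.mem_Pan_symm he1P)
    rw [hue, Δ.Pan_eq_of_mem d.2.1] at h1
    exact h1
  -- the fixed chamber
  have hfx : ∀ d, ∃ x ∈ Δ.Pan i x0, u d • b • x = a⁻¹ • x := by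
    intro d
    have h1 : PE p (a * (u d * b * (u d)⁻¹)) := hab (u d)
    have h2 : (a * (u d * b * (u d)⁻¹)) • x0 ∈ Δ.Pan i x0 := by
      rw [mul_smul, mul_smul, mul_smul]
      have h3 : (u d)⁻¹ • x0 = x0 := by rw [inv_smul_eq_iff, (hufix d).2.1]
      rw [h3]
      apply haP
      have h4 := smul_mem_Pan S (g := u d) hb
      rwa [(hufix d).1] at h4
    obtain ⟨x, hx, hxf⟩ := exists_fixed_pan S h1 h2
    refine ⟨x, hx, ?_⟩
    rw [mul_smul, mul_smul, mul_smul] at hxf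
    have h3 : (u d)⁻¹ • x = x := by rw [inv_smul_eq_iff, (hufix d).2.2 x hx]
    rw [h3] at hxf
    rw [eq_inv_smul_iff, hxf]
  choose x hxP hx using hfx
  -- `b • x d` is different from `y0` and `e1`
  have hne1 : ∀ d, b • x d ≠ y0 := by
    intro d h1
    have h2 := hx d
    rw [h1, (hufix d).1, eq_inv_smul_iff] at h2
    apply hcon
    rw [he1, h2, h1]
  have hne2 : ∀ d, b • x d ≠ e1 := by
    intro d h1
    have h2 : x d = a • y0 := by
      rw [he1] at h1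
      exact smul_left_cancel b h1
    have h3 := hx d
    rw [h2, inv_smul_smul, ← he1, hue] at h3
    exact d.2.2 h3
  let f : {d : C // d ∈ Δ.Pan i y0 ∧ d ≠ y0} → {d : C // d ∈ Δ.Pan i y0 ∧ d ≠ y0} :=
    fun d => ⟨b • x d, hbP _ (hxP d), hne1 d⟩
  have hinj : Function.Injective f := by
    intro d d' hdd
    have h1 : b • x d = b • x d' := congrArg Subtype.val hdd
    have h2 : x d = x d' := smul_left_cancel b h1
    -- the quotient of the `u`
    have h3 : ((u d')⁻¹ * u d) • (b • x d) = b • x d := by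
      rw [mul_smul, hx d, inv_smul_eq_iff, h1, hx d', h2]
    have h4 : ((u d')⁻¹ * u d) • y0 = y0 := by
      rw [mul_smul, (hufix d).1, inv_smul_eq_iff, (hufix d').1]
    have h5 : (u d')⁻¹ * u d ∈ S.U y0 := S.mem_U_of_fix (mul_mem (inv_mem (hu d')) (hu d)) h4
    have h6 := fix_pan S h5 (hbP _ (hxP d)) (hne1 d) h3 he1P
    rw [mul_smul, hue, inv_smul_eq_iff, hue] at h6
    exact Subtype.ext h6
  have hsurj := Finite.surjective_of_injective hinj
  obtain ⟨d, hd⟩ := hsurj ⟨e1, he1P, hcon⟩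
  exact hne2 d (congrArg Subtype.val hd)

/-- **Lemma Y**. -/
theorem lemY [Finite C] (hth : Δ.Thick) {a b : G} (hab : Good p a b) {i : I} {x0 y0 : C} (h : NP Δ i x0 y0)
    (hb : b • x0 ∈ Δ.Pan i y0) (ha : a • y0 ∈ Δ.Pan i x0) : a • y0 = x0 ∧ b • x0 = y0 := by
  have h0 := lemY1 S hth hab h hb ha
  -- it suffices to prove `a • y0 = x0`
  suffices ha0 : a • y0 = x0 by
    refine ⟨ha0, ?_⟩
    rw [ha0] at h0
    exact h0
  by_contra hcon
  obtain ⟨d1, -, -, hd1, -⟩ := hth y0 i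
  have hd1p : d1 ∈ Δ.Pan i y0 := Δ.mem_Pan_of_δ hd1
  have hd1n : d1 ≠ y0 := (Δ.ne_of_δ_simple hd1).symm
  -- a chamber of the panel of `x0` different from `x0` and `a • y0`
  obtain ⟨z, hz, hz1, hz2⟩ : ∃ z ∈ Δ.Pan i x0, z ≠ x0 ∧ z ≠ a • y0 := by
    obtain ⟨z1, z2, h12, hz1, hz2⟩ := hth x0 i
    rcases eq_or_ne z1 (a • y0) with h1 | h1
    · exact ⟨z2, Δ.mem_Pan_of_δ hz2, (Δ.ne_of_δ_simple hz2).symm, fun h2 => h12 (h1.trans h2.symm)⟩
    · exact ⟨z1, Δ.mem_Pan_of_δ hz1, (Δ.ne_of_δ_simple hz1).symm, h1⟩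
  obtain ⟨v, hv, hvz⟩ := S.exists_move (x := d1) (z := a • y0) (z' := z) (by
    rw [Δ.symm (a • y0) d1, Δ.symm z d1, h.dLR ha hcon hd1p hd1n, h.dLR hz hz1 hd1p hd1n])
  have hvfix := fix_of_np S h.swap hd1p hd1n hv (by
    have h1 := smul_mem_Pan S (g := v) (Δ.mem_Pan_symm ha)
    rw [hvz, Δ.Pan_eq_of_mem hz] at h1
    exact h1)
  -- apply the first part to `v * b * v⁻¹`
  have h1 := lemY1 S hth (hab.conjR v) h (by
    rw [mul_smul, mul_smul]
    have h3 : v⁻¹ • x0 = x0 := by rw [inv_smul_eq_iff, hvfix.1]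
    rw [h3, hvfix.2.2 _ hb]
    exact hb) ha
  rw [mul_smul, mul_smul] at h1
  have h2 : b • v⁻¹ • a • y0 = y0 := by
    have h3 : v⁻¹ • y0 = y0 := by rw [inv_smul_eq_iff, hvfix.2.1]
    have h4 : b • v⁻¹ • a • y0 = v⁻¹ • y0 := by rw [eq_inv_smul_iff]; exact h1
    rw [h4, h3]
  rw [← h0] at h2
  have h3 : v⁻¹ • a • y0 = a • y0 := by
    have h4 := smul_left_cancel b h2
    rw [h0] at h4
    exact h4
  rw [inv_smul_eq_iff, hvz] at h3
  exact hz2 h3.symm

/-- the two positions of a nonparallel pair of panels -/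
theorem lemY_pair [Finite C] (hth : Δ.Thick) {a b : G} (hab : Good p a b) {i : I} {c : C} (hc : b • c = a⁻¹ • c)
    (hne : cs.simple i * Δ.δ c (b • c) ≠ Δ.δ c (b • c) * cs.simple i) :
    ∃ x0 ∈ Δ.Pan i c, ∃ y0 ∈ Δ.Pan i (b • c), NP Δ i x0 y0 ∧ a • y0 = x0 ∧ b • x0 = y0 ∧
      (Δ.δ c (b • c) = Δ.δ x0 y0 ∨ Δ.δ c (b • c) = cs.simple i * Δ.δ x0 y0 * cs.simple i) := by
  obtain ⟨x0, hx0, y0, hy0, h⟩ := exists_np hne
  have hb : b • x0 ∈ Δ.Pan i y0 := by
    rw [Δ.Pan_eq_of_mem hy0]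
    exact smul_mem_Pan S hx0
  have ha : a • y0 ∈ Δ.Pan i x0 := by
    rw [Δ.Pan_eq_of_mem hx0]
    have h1 := smul_mem_Pan S (g := a) hy0
    rwa [hc, smul_inv_smul] at h1
  obtain ⟨h1, h2⟩ := lemY S hth hab h hb ha
  refine ⟨x0, hx0, y0, hy0, h, h1, h2, ?_⟩
  rcases eq_or_ne c x0 with rfl | hcx
  · left; rw [h2]
  · right
    refine h.dLR (Δ.mem_Pan_symm hx0) hcx (Δ.mem_Pan_symm hy0) ?_
    rw [← h2]
    intro h3
    exact hcx (smul_left_cancel b h3)

/-- **Dis is invariant under conjugation by the simple reflections, and the lengths differ.** -/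
theorem dis_simple [Finite C] (hth : Δ.Thick) {a b : G} (hab : Good p a b) {v : W} (hv : v ∈ Dis Δ a b) {i : I}
    (hne : cs.simple i * v ≠ v * cs.simple i) :
    cs.simple i * v * cs.simple i ∈ Dis Δ a b ∧
      ((ℓ (cs.simple i * v * cs.simple i) = ℓ v + 2 ∧ ℓ v < ℓ (cs.simple i * v) ∧ ℓ v < ℓ (v * cs.simple i)) ∨
       (ℓ (cs.simple i * v * cs.simple i) + 2 = ℓ v ∧ ℓ (cs.simple i * v) < ℓ v ∧ ℓ (v * cs.simple i) < ℓ v)) := by
  obtain ⟨g, c, hc1, hc2⟩ := exists_pair S hth hv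
  have hab' := hab.conjR g
  rw [← dis_conj S g]
  set b' := g * b * g⁻¹ with hb'
  rw [← hc2] at hc1
  rw [← hc1] at hne
  obtain ⟨x0, hx0, y0, hy0, h, h1, h2, h3⟩ := lemY_pair S hth hab' hc2 hne
  have hss : cs.simple i * cs.simple i = 1 := cs.simple_mul_simple_self i
  have hm : Δ.δ x0 y0 ∈ Dis Δ a b' := by
    have := mem_dis (Δ := Δ) S (a := a) (b := b') (c := x0) (by rw [h2, eq_inv_smul_iff, h1])
    rwa [h2] at this
  have hl := h.len
  rcases h3 with h3 | h3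
  · -- `v = m`
    rw [hc1] at h3
    refine ⟨?_, Or.inl ⟨?_, ?_, ?_⟩⟩
    · obtain ⟨c1, -, -, hc1, -⟩ := hth x0 i
      have hc1p : c1 ∈ Δ.Pan i x0 := Δ.mem_Pan_of_δ hc1
      have hc1n : c1 ≠ x0 := (Δ.ne_of_δ_simple hc1).symm
      have hmP : ∀ z ∈ Δ.Pan i x0, b' • z ∈ Δ.Pan i y0 := fun z hz => by
        have := smul_mem_Pan S (g := b') hz
        rwa [h2] at this
      have hn : b' • c1 ≠ y0 := by
        rw [← h2]
        intro h4
        exact hc1n (smul_left_cancel b' h4)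
      refine ⟨⟨c1, ?_⟩, ⟨c1, ?_⟩⟩
      · have h4 : a⁻¹ • c1 ∈ Δ.Pan i y0 := by
          have := smul_mem_Pan S (g := a⁻¹) hc1p
          rwa [← h1, inv_smul_smul] at this
        have h5 : a⁻¹ • c1 ≠ y0 := by
          intro h6
          rw [inv_smul_eq_iff, h1] at h6
          exact hc1n h6
        rw [h.dLR hc1p hc1n h4 h5, h3]
      · rw [h.dLR hc1p hc1n (hmP _ hc1p) hn, h3]
    · rw [h3]; exact hl
    · rw [h3]; exact h.left
    · rw [h3]; exact h.right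
  · -- `v = s m s`
    rw [hc1] at h3
    have e1 : cs.simple i * v * cs.simple i = Δ.δ x0 y0 := by
      rw [h3]
      calc cs.simple i * (cs.simple i * Δ.δ x0 y0 * cs.simple i) * cs.simple i
          = (cs.simple i * cs.simple i) * Δ.δ x0 y0 * (cs.simple i * cs.simple i) := by group
        _ = _ := by rw [hss, one_mul, mul_one]
    have e2 : cs.simple i * v = Δ.δ x0 y0 * cs.simple i := by
      rw [h3, ← mul_assoc, ← mul_assoc, hss, one_mul]
    have e3 : v * cs.simple i = cs.simple i * Δ.δ x0 y0 := by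
      rw [h3, mul_assoc, hss, mul_one]
    have l1 := cs.length_mul_simple (Δ.δ x0 y0) i
    have l2 := cs.length_simple_mul (Δ.δ x0 y0) i
    refine ⟨by rw [e1]; exact hm, Or.inr ⟨?_, ?_, ?_⟩⟩
    · rw [e1, h3]; omega
    · rw [e2, h3]; omega
    · rw [e3, h3]; omega

end Cfsg.Agent.H197.Cls
end

-- part: H197/Cls/DisW
section
/-!
# S2451, helper197: `Dis Δ a b` is a union of classes of involutions `w_J`, `w_J` central in `W_J`

* `dis_conj_mem` : invariance under `W`;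
* `exists_wJ` : each element of `Dis Δ a b` is conjugate to some `w_J` which commutes with `s_j`, `j ∈ J`.
-/

set_option autoImplicit false
set_option linter.unusedSectionVars false

open scoped Pointwise

namespace Cfsg.Agent.H197.Cls

open Cfsg.Agent.Tits.Core Cfsg.Agent.Tits.Core.Bldg Cfsg.Agent.Tits.Exchange Cfsg.Agent.Tits Cfsg.Agent.FixBN

variable {I : Type*} {M : CoxeterMatrix I} {W : Type*} [Group W] {cs : CoxeterSystem M W} {C : Type*}

local prefix:100 "ℓ" => cs.length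

/-- an element all of whose descents commute with it is `w_J` -/
theorem eq_wJ_of_comm [F : OppRes.Cox cs] {w : W}
    (h : ∀ i, (ℓ (cs.simple i * w) < ℓ w ∨ ℓ (w * cs.simple i) < ℓ w) → cs.simple i * w = w * cs.simple i) :
    ∃ J : Set I, w = wJ cs J ∧ (∀ i, i ∈ J ↔ ℓ (cs.simple i * w) < ℓ w) ∧
      ∀ i ∈ J, cs.simple i * wJ cs J = wJ cs J * cs.simple i := by
  set J : Set I := {i | ℓ (cs.simple i * w) < ℓ w} with hJdef
  have hJ : ∀ i, i ∈ J ↔ ℓ (cs.simple i * w) < ℓ w := fun i => Iff.rfl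
  obtain ⟨u, hu, v, hw, hv⟩ := exists_isMinL cs J w
  have hv1 : v = 1 := by
    by_contra hne
    obtain ⟨k, hk⟩ := cs.exists_rightDescent_of_ne_one hne
    have hk' : ℓ (v * cs.simple k) < ℓ v := hk
    have h3 : ℓ (w * cs.simple k) < ℓ w := by
      have h4 := hv u hu
      have h5 := cs.length_mul_le u (v * cs.simple k)
      rw [← mul_assoc, ← hw] at h5
      rw [← hw] at h4
      omega
    have h8 := h k (Or.inr h3)
    have h6 : ℓ (cs.simple k * w) < ℓ w := by rw [h8]; exact h3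
    have h9 : v * cs.simple k = (u⁻¹ * cs.simple k * u) * v := by
      have h10 : cs.simple k * (u * v) = u * v * cs.simple k := by rw [← hw]; exact h8
      calc v * cs.simple k = u⁻¹ * (u * v * cs.simple k) := by group
        _ = u⁻¹ * (cs.simple k * (u * v)) := by rw [h10]
        _ = _ := by group
    have h11 : u⁻¹ * cs.simple k * u ∈ WJ cs J :=
      mul_mem (mul_mem (inv_mem hu) (simple_mem_WJ cs ((hJ _).2 h6))) hu
    have h12 := hv _ h11
    rw [← h9] at h12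
    omega
  have hwu : w = u := by rw [hw, hv1, mul_one]
  have hwJ : w ∈ WJ cs J := by rw [hwu]; exact hu
  have h3 : w⁻¹ = wJ cs J := by
    refine F.eq_wJ_of_descents (inv_mem hwJ) fun j hj => ?_
    have h4 := cs.length_inv (cs.simple j * w)
    rw [mul_inv_rev, cs.inv_simple] at h4
    rw [h4, cs.length_inv]
    exact hj
  have h4 : w = wJ cs J := by rw [← inv_inv w, h3, F.wJ_inv]
  refine ⟨J, h4, hJ, fun i hi => ?_⟩
  rw [← h4]
  exact h i (Or.inl hi)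

variable {Δ : Bldg cs C} {G : Type*} [Group G] [MulAction G C] {p : ℕ} (S : Sys Δ G p)

include S

variable [hp : Fact p.Prime] [F : OppRes.Cox cs] [Finite C]

/-- `Dis Δ a b` is invariant under conjugation -/
theorem dis_conj_mem (hth : Δ.Thick) {a b : G} (hab : Good p a b) {v : W} (hv : v ∈ Dis Δ a b) (w : W) :
    w * v * w⁻¹ ∈ Dis Δ a b := by
  induction w using cs.simple_induction_left with
  | one => simpa using hv
  | mul_simple_left w i ih =>
    have e : cs.simple i * w * v * (cs.simple i * w)⁻¹ = cs.simple i * (w * v * w⁻¹) * cs.simple i := by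
      rw [mul_inv_rev, cs.inv_simple]
      group
    rw [e]
    by_cases h : cs.simple i * (w * v * w⁻¹) = (w * v * w⁻¹) * cs.simple i
    · rw [h, mul_assoc _ (cs.simple i), cs.simple_mul_simple_self, mul_one]
      exact ih
    · exact (dis_simple S hth hab ih h).1

/-- each element is conjugate to a longest element `w_J`, central in `W_J` -/
theorem exists_wJ (hth : Δ.Thick) {a b : G} (hab : Good p a b) {v : W} (hv : v ∈ Dis Δ a b) :
    ∃ (w : W) (J : Set I), w * v * w⁻¹ = wJ cs J ∧ ∀ i ∈ J, cs.simple i * wJ cs J = wJ cs J * cs.simple i := by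
  classical
  have hne : ∃ n, ∃ w : W, ℓ (w * v * w⁻¹) = n := ⟨_, 1, rfl⟩
  obtain ⟨w, hw⟩ := Nat.find_spec hne
  have hmin : ∀ w' : W, ℓ (w * v * w⁻¹) ≤ ℓ (w' * v * w'⁻¹) := fun w' => by
    rw [hw]; exact Nat.find_min' hne ⟨w', rfl⟩
  have hmem := dis_conj_mem S hth hab hv w
  obtain ⟨J, h1, -, h3⟩ := eq_wJ_of_comm (cs := cs) (w := w * v * w⁻¹) (by
    intro i hi
    by_contra hcon
    have h4 := hmin (cs.simple i * w)
    have e : cs.simple i * w * v * (cs.simple i * w)⁻¹ = cs.simple i * (w * v * w⁻¹) * cs.simple i := by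
      rw [mul_inv_rev, cs.inv_simple]
      group
    rw [e] at h4
    obtain ⟨-, ⟨h5, h6, h7⟩ | ⟨h5, h6, h7⟩⟩ := dis_simple S hth hab hmem hcon
    · rcases hi with hi | hi <;> omega
    · omega)
  exact ⟨w, J, h1, h3⟩

end Cfsg.Agent.H197.Cls
end
end

-- part: H197/Cls/Tor
section
set_option linter.all false
open scoped Cfsg.Agent.FastGrp

/-!
# S2451, helper197: the torus lemma

If `b • c = a⁻¹ • c = d` and all products of `a` with conjugates of `b` are `p`-elements, then each `h` fixing `c` and `d`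
satisfies `h * (b * h⁻¹ * b⁻¹) ∈ U d`.
-/

set_option autoImplicit false
set_option linter.unusedSectionVars false

open scoped Pointwise

namespace Cfsg.Agent.H197.Cls

open Cfsg.Agent.Tits.Core Cfsg.Agent.Tits.Core.Bldg Cfsg.Agent.Tits.Exchange Cfsg.Agent.Tits Cfsg.Agent.FixBN

variable {I : Type*} {M : CoxeterMatrix I} {W : Type*} [Group W] {cs : CoxeterSystem M W} {C : Type*}

variable {Δ : Bldg cs C} {G : Type*} [Group G] [MulAction G C] {p : ℕ} (S : Sys Δ G p) [hp : Fact p.Prime]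

include S

/-- **The torus lemma.** -/
theorem tor {a b : G} (hab : Good p a b) {c : C} (hc : b • c = a⁻¹ • c) {h : G} (h1 : h • c = c)
    (h2 : h • b • c = b • c) : h * (b * h⁻¹ * b⁻¹) ∈ S.U (b • c) := by
  have hc' : a • b • c = c := by rw [hc, smul_inv_smul]
  have hi : h⁻¹ • c = c := by rw [inv_smul_eq_iff, h1]
  have e1 : a * b ∈ S.U c := mem_U S hab.mul (by rw [mul_smul, hc'])
  have e2 : a * (h * b * h⁻¹) ∈ S.U c := mem_U S (hab h) (by rw [mul_smul, mul_smul, mul_smul, hi, h2, hc'])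
  have e3 := mul_mem e2 (inv_mem e1)
  have e4 := S.conj_mem_U e3 a⁻¹
  rw [← hc] at e4
  have e5 : a⁻¹ * (a * (h * b * h⁻¹) * (a * b)⁻¹) * a⁻¹⁻¹ = h * (b * h⁻¹ * b⁻¹) := by group
  rwa [e5] at e4

end Cfsg.Agent.H197.Cls
end

-- part: H743/AH/TwFC
section
set_option linter.all false
open scoped Cfsg.Agent.FastGrp

-- part: H743/AH/BNTor
section
/-!
# S2451 (helper743): the torus lemma for split (B,N)-pairs

`comm_of_mem_dis` : `B / U` abelian, all products of `a` with the conjugates of `b` are `p`-elements,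
`n (B ∩ N) ∈ Dis a b`: then `n⁻¹ h n h⁻¹ ∈ U` for all `h ∈ B ∩ N`.
-/

set_option autoImplicit false
set_option linter.unusedSectionVars false

open scoped Pointwise

namespace Cfsg.Agent.H743.AH.BNTor

open Cfsg Cfsg.Agent.Tits.Core Cfsg.Agent.Tits.Core.Bldg Cfsg.Agent.Tits.OfBN Cfsg.Agent.FixBN
  Cfsg.Agent.Tits.OppRes Cfsg.Agent.H197.Cls Cfsg.Agent.LieExceptional.BNPairCore

variable {K : Type*} [Group K] {P : Cfsg.BNPair K} {p : ℕ} {U : Subgroup K} [hpf : Fact p.Prime] [Finite K]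
  [hN : ((P.B ⊓ P.N).subgroupOf P.N).Normal]
  {I : Type*} [Fintype I] [DecidableEq I] {M : CoxeterMatrix I} (e : I ≃ P.S) (cs : CoxeterSystem M (WP P)) [F : Cox cs]
  (hcs : ∀ i, cs.simple i = QuotientGroup.mk (⟨(e i : K), P.subset (e i).2⟩ : P.N))

theorem comm_of_mem_dis (Sp : Split P p U) (hc : ∀ x ∈ P.B, ∀ y ∈ P.B, x * y * x⁻¹ * y⁻¹ ∈ U) {a b : K}
    (hab : Good p a b) {n : P.N} (hn : (QuotientGroup.mk n : WP P) ∈ Dis (bldg P e cs hcs) a b) {h : K}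
    (hB : h ∈ P.B) (hhN : h ∈ P.N) : (n : K)⁻¹ * h * n * h⁻¹ ∈ U := by
  set S := FixBN.OfBN.sys e cs hcs Sp with hS
  have hth : (bldg P e cs hcs).Thick := thick P e cs hcs
  obtain ⟨g, c, hc1, hbc⟩ := exists_pair S hth hn
  have hδ : (bldg P e cs hcs).δ (QuotientGroup.mk 1 : K ⧸ P.B) (QuotientGroup.mk (n : K)) = QuotientGroup.mk n := by
    rw [bldg_δ_mk, inv_one, one_mul]
    exact wt_of_mem P (self_mem_C _)
  obtain ⟨k, hk1, hk2⟩ := exists_smul_pair S hth (x := c) (y := a⁻¹ • c) (x' := (QuotientGroup.mk 1 : K ⧸ P.B))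
    (y' := QuotientGroup.mk (n : K)) (by rw [hc1, hδ])
  -- conjugate
  obtain ⟨a', ha'⟩ : ∃ a', a' = k * a * k⁻¹ := ⟨_, rfl⟩
  obtain ⟨b', hb'⟩ : ∃ b', b' = k * (g * b * g⁻¹) * k⁻¹ := ⟨_, rfl⟩
  have hab' : Good p a' b' := by
    rw [ha', hb']
    exact ((hab.conjR g).conjR k).conjL k
  have hki : k⁻¹ • (QuotientGroup.mk 1 : K ⧸ P.B) = c := by rw [inv_smul_eq_iff, hk1]
  have h1 : b' • (QuotientGroup.mk 1 : K ⧸ P.B) = QuotientGroup.mk (n : K) := by
    rw [hb', mul_smul, mul_smul, hki, hbc, hk2]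
  have h2 : a'⁻¹ • (QuotientGroup.mk 1 : K ⧸ P.B) = QuotientGroup.mk (n : K) := by
    have e1 : a'⁻¹ = k * a⁻¹ * k⁻¹ := by rw [ha']; group
    rw [e1, mul_smul, mul_smul, hki, hk2]
  have hhn : (n : K)⁻¹ * h * n ∈ P.B := by
    have h3 := P.conj_mem (n : K)⁻¹ (inv_mem n.2) h (Subgroup.mem_inf.2 ⟨hB, hhN⟩)
    rwa [inv_inv] at h3
  have h3 := tor S hab' (c := (QuotientGroup.mk 1 : K ⧸ P.B)) (by rw [h1, h2]) (h := h)
    (FixBN.OfBN.smul_mk_eq.2 (by rw [inv_one, one_mul, mul_one]; exact hB))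
    (by rw [h1]; exact FixBN.OfBN.smul_mk_eq.2 hhn)
  rw [h1] at h3
  have h4 : (n : K)⁻¹ * (h * (b' * h⁻¹ * b'⁻¹)) * n ∈ U := (FixBN.OfBN.mem_UU Sp).1 h3
  have h5 : (n : K)⁻¹ * b' ∈ P.B := by
    have h6 : (QuotientGroup.mk (b' * 1) : K ⧸ P.B) = QuotientGroup.mk (n : K) := h1
    rw [mul_one] at h6
    exact FixBN.OfBN.mk_eq.1 h6.symm
  have h6 := mul_mem h4 (hc _ h5 _ hB)
  have e7 : (n : K)⁻¹ * (h * (b' * h⁻¹ * b'⁻¹)) * n * ((n : K)⁻¹ * b' * h * ((n : K)⁻¹ * b')⁻¹ * h⁻¹) =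
      (n : K)⁻¹ * h * n * h⁻¹ := by group
  rwa [e7] at h6

end Cfsg.Agent.H743.AH.BNTor
end

-- part: H743/AH/TwFBN
section
/-!
# The split (B,N)-pair of `²F₄(q)` and its root groups (helper743)

`exists_bn` : the split (B,N)-pair `P` with `U = ⟨X_1, …, X_8⟩`, `S = {n₁, n₂}` and `T ≤ N`.
-/

set_option autoImplicit false
set_option linter.unusedSectionVars false
set_option linter.style.haveILetI false

namespace Cfsg.Agent.H743.AH.TwF

open Cfsg.Lie
open Cfsg.Agent.ChevalleyStructure.TwF4.Tables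
open Cfsg.Agent.ChevalleyStructure.TwF4.Rel
open Cfsg.Agent.ChevalleyStructure.TwF4.Groups Cfsg.Agent.ChevalleyStructure.TwF4.RankOne
open Cfsg.Agent.ChevalleyStructure.TwF4.Twisted Cfsg.Agent.ChevalleyStructure.TwF4.TwistedFix
open Cfsg.Agent.ChevalleyStructure.TwF4.BN
open Cfsg.Agent.ChevalleyStructure.TwF4.Torus (T T_conj_X chi_def)
open Cfsg.Agent.ChevalleyStructure.F4NTab (ca)
open Cfsg.Agent.ChevalleyStructure.TwF4.TwGen (tc tc_mul chi_tc_24 chi_tc_25 chi_tc_33 chi_tc_27 chi28 chi30 pow_all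
  n1_eq n2_eq n1_conj_T n2_conj_T)
open Cfsg.Agent.ChevalleyStructure.TwF4.TorusFix (mem_iff pow_unit T_rt rt)
open Cfsg.Agent.ChevalleyStructure.TwF4.Fix (Fix)
open Cfsg.Agent.ChevalleyStructure.TwF4.OrderCls (X_inj)
open Cfsg.Agent.Schreier.TwFFour
open Cfsg.Agent.Octagon.KSys Cfsg.Agent.Octagon.KPar Cfsg.Agent.Octagon.KRoot Cfsg.Agent.Octagon.Pkg
open Cfsg.Agent.ParSys.Fam.TwoFFour
open Cfsg.Agent.SplitTwo Cfsg.Agent.SplitTwo.ZS Cfsg.Agent.SplitTwo.RootSysZ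
open Cfsg.Agent.KFacts.TwF4 (Full)

variable {K : Type*} [Field K] [Fintype K] {m : ℕ}

theorem exists_bn (hK : Fintype.card K = 2 ^ (2 * m + 1)) :
    haveI : CharP K 2 := charP_two hK
    ∃ (φ : K →+* K) (S : Full φ ↥(twistedF4 K (2 ^ m))) (P : Cfsg.BNPair ↥(twistedF4 K (2 ^ m))), S.R.p = 2 ∧
      FixBN.Split P 2 (J S.XZ 1 8) ∧ P.S = {S.n1, S.n2} ∧ S.T ≤ P.N := by
  haveI : CharP K 2 := charP_two hK
  haveI : Fact (Nat.Prime 2) := ⟨Nat.prime_two⟩
  obtain ⟨φ, hφ⟩ := exists_rln hK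
  obtain ⟨P, hPB, hPN, -, hPS⟩ := Cfsg.Agent.ChevalleyStructure.TwF4.BNIrred.exists_bnPair_irreducible hφ
  have hB : P.B = B0 K (2 ^ m) := hPB
  have hdec := dec hK hφ
  have hUp := isPGroup_U0 hK
  have node_1 : Cfsg.Agent.Schreier.BNSch.Node P (U0 K (2 ^ m)) (m1 K (2 ^ m)) (V1 K (2 ^ m)) := node1 hφ hB
  have node_2 : Cfsg.Agent.Schreier.BNSch.Node P (U0 K (2 ^ m)) (m2 hφ) (V8 K (2 ^ m)) := node2 hφ hB
  have hdB : ∀ b ∈ P.B, ∃ s t : Kˣ, ∃ u ∈ U0 K (2 ^ m), b = u * tt hdec s t := by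
    intro b hb
    rw [hB] at hb
    obtain ⟨s, t, u, hu, hbu⟩ := hdec.1 b hb
    exact ⟨s, t, u, hu, Subtype.ext hbu⟩
  have httN : ∀ s t : Kˣ, tt hdec s t ∈ P.N := fun s t => by
    rw [hPN]
    exact Cfsg.Agent.ChevalleyStructure.TwF4.NStruct.T_mem_N _
  have hH : ∀ h ∈ P.B, h ∈ P.N → ∃ s t : Kˣ, h = tt hdec s t := by
    intro h hh hN
    rw [hPB, Subgroup.mem_subgroupOf] at hh
    rw [hPN, Subgroup.mem_subgroupOf] at hN
    have h1 := borel_inf_N ⟨hh, hN⟩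
    obtain ⟨s, t, hst⟩ := (mem_iff hK (h : GL chevF4.Idx K)).1 ⟨h1, h.2⟩
    exact ⟨s, t, Subtype.ext hst⟩
  have hUB : U0 K (2 ^ m) ≤ P.B := by rw [hB]; exact U0_le_B0
  have hnorm : ∀ b ∈ P.B, ∀ u ∈ U0 K (2 ^ m), b * u * b⁻¹ ∈ U0 K (2 ^ m) := fun b hb u hu => by
    rw [hB] at hb
    exact conj_U0 hb hu
  have hU : U0 K (2 ^ m) = J (Cfsg.Agent.KFacts.TwF4.Inst.full hK hφ).XZ 1 8 := by
    rw [Cfsg.Agent.KFacts.TwF4.Inst.U0_eq hφ]
    apply le_antisymm
    · refine iSup₂_le fun k hk => ?_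
      have h1 : (Cfsg.Agent.KFacts.TwF4.Inst.full hK hφ).XZ (k : ℤ) ≤
        J (Cfsg.Agent.KFacts.TwF4.Inst.full hK hφ).XZ 1 8 := X_le_J (by exact_mod_cast hk.1) (by exact_mod_cast hk.2)
      refine le_trans (le_of_eq ?_) h1
      show (Cfsg.Agent.KFacts.TwF4.Inst.full hK hφ).R.X ((k : ℕ) : ZMod (2 * 8)) =
        (Cfsg.Agent.KFacts.TwF4.Inst.full hK hφ).R.X (((k : ℕ) : ℤ) : ZMod (2 * 8))
      rw [Int.cast_natCast]
    · refine J_le fun k h1 h2 => ?_
      obtain ⟨n, rfl⟩ := Int.eq_ofNat_of_zero_le (show 0 ≤ k by omega)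
      have h3 := le_iSup₂ (f := fun (k : ℕ) (_ : k ∈ Set.Icc (1 : ℕ) 8) =>
        Cfsg.Agent.Octagon.KSys.XX K (2 ^ m) ((k : ℕ) : ZMod (2 * 8))) n ⟨by exact_mod_cast h1, by exact_mod_cast h2⟩
      refine le_trans (le_of_eq ?_) h3
      show (Cfsg.Agent.KFacts.TwF4.Inst.full hK hφ).R.X (((n : ℕ) : ℤ) : ZMod (2 * 8)) =
        (Cfsg.Agent.KFacts.TwF4.Inst.full hK hφ).R.X ((n : ℕ) : ZMod (2 * 8))
      rw [Int.cast_natCast]
  refine ⟨φ, Cfsg.Agent.KFacts.TwF4.Inst.full hK hφ, P, rfl, ?_, hPS, ?_⟩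
  · rw [← hU]
    exact
      { le := hUB
        norm := hnorm
        isP := hUp
        cover := fun b hb => by
          obtain ⟨s, t, u, hu, rfl⟩ := hdB b hb
          refine ⟨u, hu, ?_⟩
          rw [inv_mul_cancel_left]
          exact httN s t
        tor := ⟨2 ^ (2 * m + 1) - 1, by
          have h1 : 2 ∣ 2 ^ (2 * m + 1) := dvd_pow_self 2 (by omega)
          have h2 : 0 < 2 ^ (2 * m + 1) := by positivity
          omega, fun h hh hN => by
          obtain ⟨s, t, rfl⟩ := hH h hh hN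
          apply Subtype.ext
          show T (tc (2 ^ m) s t) ^ (2 ^ (2 * m + 1) - 1) = 1
          rw [← map_pow]
          have h2 : tc (2 ^ m) s t ^ (2 ^ (2 * m + 1) - 1) = 1 := by
            have h3 : ∀ x : Kˣ, x ^ (2 ^ (2 * m + 1) - 1) = 1 := by
              intro x
              have h4 := pow_card_eq_one' (x := x)
              rwa [Nat.card_units, Nat.card_eq_fintype_card, hK] at h4
            funext l
            rw [Pi.pow_apply, h3]; rfl
          rw [h2, map_one]⟩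
        node := by
          intro s hs
          rw [hPS] at hs
          rcases hs with rfl | hs
          · exact ⟨_, node_1⟩
          · rw [Set.mem_singleton_iff] at hs
            subst hs
            exact ⟨_, node_2⟩
        core := by
          rw [hPB, ← Subgroup.inf_subgroupOf_right]
          exact Cfsg.Agent.S1113.result hK }
  · intro t ht
    rw [hPN]
    have h1 := Cfsg.Agent.KFacts.TwF4.Inst.torus_diag hφ
      (show t ∈ Cfsg.Agent.TitsThree.RankTwoZ.torus (Cfsg.Agent.Octagon.KSys.XX K (2 ^ m)) from ht)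
    exact Subgroup.mem_subgroupOf.2
      ((le_sup_left : chevF4.diagonalSubgroup K ≤ chevF4.monomialSubgroup K) h1)

end Cfsg.Agent.H743.AH.TwF
end

-- part: H743/AH/TwFRC
section
/-!
# Centralisers of elements of odd order in groups `R : L`, `L` of rank one (helper743)

`RC M V R Y D T n` : `M = V T ∪ V T n V`, `V = R Y` a 2-group, `R` normal in `M`, `T` abelian of odd order, inverted by
`n` and acting fixed point freely on `Y`, the fixed points of the elements of `T` on `R` lie in `D`.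

* `card_sq_le` : **a 2-subgroup `X` of `M` commuting with an element `≠ 1` of odd order of `M` lies in `R` and
  `|X| ^ 2 ≤ |R| |D|`.**
-/

set_option autoImplicit false
set_option linter.unusedSectionVars false

namespace Cfsg.Agent.H743.AH

open Subgroup
open scoped Pointwise

variable {G : Type*} [Group G]

/-- `M = R : L`, `L` of rank one -/
structure RC (M V R Y D T : Subgroup G) (n : G) : Prop where
  VM : V ≤ M
  RV : R ≤ V
  YV : Y ≤ V
  DR : D ≤ R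
  TM : T ≤ M
  nM : n ∈ M
  split : ∀ v ∈ V, ∃ r ∈ R, ∃ y ∈ Y, v = r * y
  RY : ∀ y ∈ Y, y ∈ R → y = 1
  tv : ∀ t ∈ T, ∀ x ∈ V, t * x * t⁻¹ ∈ V
  ty : ∀ t ∈ T, ∀ x ∈ Y, t * x * t⁻¹ ∈ Y
  rn : ∀ m ∈ M, ∀ x ∈ R, m * x * m⁻¹ ∈ R
  comm : ∀ s ∈ T, ∀ t ∈ T, s * t = t * s
  p2 : IsPGroup 2 V
  odd : Odd (Nat.card T)
  inv : ∀ t ∈ T, n * t * n⁻¹ = t⁻¹
  form : ∀ g ∈ M, (∃ b ∈ V, ∃ t ∈ T, g = b * t) ∨ ∃ b ∈ V, ∃ t ∈ T, ∃ x ∈ V, g = b * (t * n) * x
  oppY : ∀ y ∈ Y, n * y * n⁻¹ ∈ V → y = 1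
  fpf : ∀ t ∈ T, t ≠ 1 → ∀ y ∈ Y, t * y * t⁻¹ = y → y = 1
  fix : ∀ t ∈ T, t ≠ 1 → ∀ x ∈ R, t * x * t⁻¹ = x → x ∈ D
  Yne : Y ≠ ⊥
  Tne : T ≠ ⊥

namespace RC

variable {M V R Y D T : Subgroup G} {n : G} (C : RC M V R Y D T n)
include C

theorem norm_V : T ≤ normalizer (V : Set G) := by
  intro t ht
  rw [mem_normalizer_iff]
  intro u
  refine ⟨fun h => C.tv t ht u h, fun h => ?_⟩
  have h2 := C.tv t⁻¹ (inv_mem ht) _ h
  have e : t⁻¹ * (t * u * t⁻¹) * t⁻¹⁻¹ = u := by group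
  rwa [e] at h2

/-- powers of `v t` -/
theorem pow_form {v t : G} (hv : v ∈ V) (ht : t ∈ T) (m : ℕ) : ∃ w ∈ V, (v * t) ^ m = w * t ^ m := by
  induction m with
  | zero => exact ⟨1, one_mem _, by simp⟩
  | succ m ih =>
    obtain ⟨w, hw, e⟩ := ih
    refine ⟨w * (t ^ m * v * (t ^ m)⁻¹), mul_mem hw (C.tv _ (pow_mem ht m) _ hv), ?_⟩
    rw [pow_succ, e, pow_succ]
    group

theorem opp {v : G} (hv : v ∈ V) (h : n * v * n⁻¹ ∈ V) : v ∈ R := by
  obtain ⟨r, hr, y, hy, rfl⟩ := C.split v hv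
  have h1 : n * y * n⁻¹ ∈ V := by
    have h2 : n * r * n⁻¹ ∈ V := C.RV (C.rn n C.nM r hr)
    have e : n * y * n⁻¹ = (n * r * n⁻¹)⁻¹ * (n * (r * y) * n⁻¹) := by group
    rw [e]
    exact mul_mem (inv_mem h2) h
  rw [C.oppY y hy h1, mul_one]
  exact hr

theorem R_ne_V : R ≠ V := by
  intro h
  apply C.Yne
  rw [eq_bot_iff]
  intro y hy
  rw [mem_bot]
  exact C.RY y hy (by rw [h]; exact C.YV hy)

variable [Finite G]

theorem inf_eq {t : G} (ht : t ∈ T) (hv : t ∈ V) : t = 1 := by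
  obtain ⟨k, hk⟩ := C.p2 ⟨t, hv⟩
  have h1 : t ^ 2 ^ k = 1 := congrArg Subtype.val hk
  have h2 : orderOf t ∣ 2 ^ k := orderOf_dvd_of_pow_eq_one h1
  have h3 : orderOf t ∣ Nat.card T := orderOf_dvd_natCard T ht
  have h4 : (2 ^ k).Coprime (Nat.card T) := (Nat.coprime_two_left.2 C.odd).pow_left k
  rw [← orderOf_eq_one_iff]
  exact Nat.eq_one_of_dvd_coprimes h4 h2 h3

theorem odd_order {t : G} (ht : t ∈ T) : Odd (orderOf t) :=
  Odd.of_dvd_nat C.odd (orderOf_dvd_natCard T ht)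

theorem sq_ne {t : G} (ht : t ∈ T) (h : t ≠ 1) : t⁻¹ * t⁻¹ ≠ 1 := by
  intro h1
  apply h
  have h2 : t ^ 2 = 1 := by
    rw [pow_two]
    have : (t⁻¹ * t⁻¹)⁻¹ = 1 := by rw [h1, inv_one]
    rwa [mul_inv_rev, inv_inv] at this
  have h3 : orderOf t ∣ 2 := orderOf_dvd_of_pow_eq_one h2
  rcases (Nat.dvd_prime Nat.prime_two).1 h3 with h4 | h4
  · exact orderOf_eq_one_iff.1 h4
  · exfalso
    have h5 := C.odd_order ht
    rw [h4] at h5
    exact absurd h5 (by decide)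

/-- elements of odd order in `V T` -/
theorem exists_conj_T {v t : G} (hv : v ∈ V) (ht : t ∈ T) (ho : Odd (orderOf (v * t))) :
    ∃ u ∈ V, u * (v * t) * u⁻¹ ∈ T := by
  have hcop : ∀ A : Subgroup G, Odd (Nat.card A) → (Nat.card A).Coprime (Nat.card V) := by
    intro A hA
    obtain ⟨k, hk⟩ := IsPGroup.iff_card.1 C.p2
    rw [hk]
    exact (Nat.coprime_two_right.2 hA).pow_right k
  have hA : Odd (Nat.card (zpowers t)) := by rw [Nat.card_zpowers]; exact C.odd_order ht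
  have hB : Odd (Nat.card (zpowers (v * t))) := by rw [Nat.card_zpowers]; exact ho
  have h1 : orderOf (v * t) ∣ orderOf t := by
    obtain ⟨w, hw, e⟩ := C.pow_form hv ht (orderOf t)
    rw [pow_orderOf_eq_one, mul_one] at e
    have h2 : orderOf ((v * t) ^ orderOf t) ∣ Nat.card V := orderOf_dvd_natCard V (by rw [e]; exact hw)
    have h3 : orderOf ((v * t) ^ orderOf t) ∣ Nat.card (zpowers (v * t)) := by
      rw [Nat.card_zpowers]; exact orderOf_pow_dvd _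
    have h4 := Nat.eq_one_of_dvd_coprimes (hcop _ hB) h3 h2
    exact orderOf_dvd_of_pow_eq_one (orderOf_eq_one_iff.1 h4)
  have h2 : orderOf t ∣ orderOf (v * t) := by
    obtain ⟨w, hw, e⟩ := C.pow_form hv ht (orderOf (v * t))
    rw [pow_orderOf_eq_one] at e
    have h3 : t ^ orderOf (v * t) ∈ V := by
      have h4 : t ^ orderOf (v * t) = w⁻¹ := eq_inv_of_mul_eq_one_right e.symm
      rw [h4]
      exact inv_mem hw
    exact orderOf_dvd_of_pow_eq_one (C.inf_eq (pow_mem ht _) h3)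
  have h3 : v * t ∈ V ⊔ zpowers t := mul_mem (mem_sup_left hv) (mem_sup_right (mem_zpowers t))
  have hsol : Group.IsSolvable (zpowers t) := Group.isSolvable_of_comm fun a b => by
    obtain ⟨i, hi⟩ := mem_zpowers_iff.1 a.2
    obtain ⟨j, hj⟩ := mem_zpowers_iff.1 b.2
    apply Subtype.ext
    rw [coe_mul, coe_mul, ← hi, ← hj, ← zpow_add, ← zpow_add, add_comm]
  obtain ⟨u, hu, h4⟩ := S0030.exists_conj_eq (zpowers t) V (zpowers (v * t))
    ((zpowers_le.2 ht).trans C.norm_V) (hcop _ hA) (Or.inl hsol) (zpowers_le.2 h3)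
    (by rw [Nat.card_zpowers, Nat.card_zpowers]; exact Nat.dvd_antisymm h1 h2)
  refine ⟨u⁻¹, inv_mem hu, ?_⟩
  have h5 : v * t ∈ MulAut.conj u • zpowers t := by rw [h4]; exact mem_zpowers _
  rw [mem_pointwise_smul_iff_inv_smul_mem, ← map_inv, MulAut.smul_def, MulAut.conj_apply, inv_inv] at h5
  rw [inv_inv]
  exact (zpowers_le.2 ht) h5

/-- centralisers in `R` of elements of `V T` outside of `V` -/
theorem card_le {v t : G} (hv : v ∈ V) (ht : t ∈ T) (h1 : t ≠ 1) {X : Subgroup G} (hX : X ≤ R)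
    (hc : ∀ x ∈ X, (v * t) * x = x * (v * t)) : Nat.card X ≤ Nat.card D := by
  obtain ⟨k, m, hm, hkm⟩ := Nat.exists_eq_two_pow_mul_odd (orderOf_pos (v * t)).ne'
  obtain ⟨w, hw, e⟩ := C.pow_form hv ht (2 ^ k)
  have ho : orderOf ((v * t) ^ 2 ^ k) = m := by
    rw [orderOf_pow_of_dvd (by positivity) (by rw [hkm]; exact dvd_mul_right _ _), hkm,
      Nat.mul_div_cancel_left _ (by positivity)]
  have ho' : Odd (orderOf (w * t ^ 2 ^ k)) := by rw [← e, ho]; exact hm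
  obtain ⟨u, hu, h2⟩ := C.exists_conj_T hw (pow_mem ht _) ho'
  have hs1 : u * (w * t ^ 2 ^ k) * u⁻¹ ≠ 1 := by
    intro h
    rw [conj_eq_one_iff] at h
    have h3 : t ^ 2 ^ k ∈ V := by
      have h4 : t ^ 2 ^ k = w⁻¹ := eq_inv_of_mul_eq_one_right h
      rw [h4]
      exact inv_mem hw
    have h4 := C.inf_eq (pow_mem ht _) h3
    have h5 : orderOf t ∣ 2 ^ k := orderOf_dvd_of_pow_eq_one h4
    have h6 : (2 ^ k).Coprime (orderOf t) := (Nat.coprime_two_left.2 (C.odd_order ht)).pow_left k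
    exact h1 (orderOf_eq_one_iff.1 (Nat.eq_one_of_dvd_coprimes h6 h5 dvd_rfl))
  have h3 : ∀ x ∈ X, u * x * u⁻¹ ∈ D := by
    intro x hx
    refine C.fix _ h2 hs1 _ (C.rn u (C.VM hu) x (hX hx)) ?_
    have h4 : Commute (v * t) x := hc x hx
    have h5 : (w * t ^ 2 ^ k) * x = x * (w * t ^ 2 ^ k) := by
      rw [← e]
      exact (h4.pow_left (2 ^ k)).eq
    calc u * (w * t ^ 2 ^ k) * u⁻¹ * (u * x * u⁻¹) * (u * (w * t ^ 2 ^ k) * u⁻¹)⁻¹
        = u * ((w * t ^ 2 ^ k) * x) * (w * t ^ 2 ^ k)⁻¹ * u⁻¹ := by group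
      _ = u * (x * (w * t ^ 2 ^ k)) * (w * t ^ 2 ^ k)⁻¹ * u⁻¹ := by rw [h5]
      _ = _ := by group
  refine Nat.card_le_card_of_injective (fun x : X => (⟨u * x * u⁻¹, h3 x x.2⟩ : D)) fun x y hxy => ?_
  have h4 : u * (x : G) * u⁻¹ = u * y * u⁻¹ := congrArg Subtype.val hxy
  exact Subtype.ext (mul_left_cancel (mul_right_cancel h4))

/-- **the centralisers in `R` of the elements `≠ 1` of odd order of `M`** -/
theorem card_sq {y : G} (hy : y ∈ M) (hy1 : y ≠ 1) (ho : Odd (orderOf y)) {X : Subgroup G} (hX : X ≤ R)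
    (hc : ∀ x ∈ X, y * x = x * y) : Nat.card X ^ 2 ≤ Nat.card R * Nat.card D := by
  have hDR : Nat.card D ≤ Nat.card R := card_le_of_le C.DR
  rcases C.form y hy with ⟨b, hb, t, ht, rfl⟩ | ⟨b, hb, t, ht, x, hx, rfl⟩
  · have ht1 : t ≠ 1 := by
      rintro rfl
      rw [mul_one] at hy1 ho
      obtain ⟨k, hk⟩ := C.p2 ⟨b, hb⟩
      have h1 : b ^ 2 ^ k = 1 := congrArg Subtype.val hk
      have h2 : orderOf b ∣ 2 ^ k := orderOf_dvd_of_pow_eq_one h1
      have h4 : (2 ^ k).Coprime (orderOf b) := (Nat.coprime_two_left.2 ho).pow_left k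
      exact hy1 (orderOf_eq_one_iff.1 (Nat.eq_one_of_dvd_coprimes h4 h2 dvd_rfl))
    have h1 := C.card_le hb ht ht1 hX hc
    rw [pow_two]
    exact Nat.mul_le_mul (h1.trans hDR) h1
  · obtain ⟨h, hh, hh1⟩ := (bot_or_exists_ne_one T).resolve_left C.Tne
    -- `y₁ = x y x⁻¹`, `y₂ = h y₁ h⁻¹`
    have hxM := C.VM hx
    have hhM := C.TM hh
    let X₁ : Subgroup G := X.map (MulAut.conj x).toMonoidHom
    let X₂ : Subgroup G := X₁.map (MulAut.conj h).toMonoidHom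
    have c1 : Nat.card X₁ = Nat.card X := Nat.card_congr (X.equivMapOfInjective _ (MulAut.conj x).injective).toEquiv.symm
    have c2 : Nat.card X₂ = Nat.card X := by
      rw [← c1]
      exact Nat.card_congr (X₁.equivMapOfInjective _ (MulAut.conj h).injective).toEquiv.symm
    have r1 : X₁ ≤ R := by
      rintro _ ⟨z, hz, rfl⟩
      exact C.rn x hxM z (hX hz)
    have r2 : X₂ ≤ R := by
      rintro _ ⟨z, hz, rfl⟩
      exact C.rn h hhM z (r1 hz)
    have k1 : ∀ z ∈ X₁, (x * b * (t * n)) * z = z * (x * b * (t * n)) := by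
      rintro _ ⟨z, hz, rfl⟩
      show x * b * (t * n) * (x * z * x⁻¹) = x * z * x⁻¹ * (x * b * (t * n))
      have h1 := hc z hz
      calc x * b * (t * n) * (x * z * x⁻¹) = x * (b * (t * n) * x * z) * x⁻¹ := by group
        _ = x * (z * (b * (t * n) * x)) * x⁻¹ := by rw [h1]
        _ = _ := by group
    have k2 : ∀ z ∈ X₂, (h * (x * b * (t * n)) * h⁻¹) * z = z * (h * (x * b * (t * n)) * h⁻¹) := by
      rintro _ ⟨z, hz, rfl⟩
      show h * (x * b * (t * n)) * h⁻¹ * (h * z * h⁻¹) = h * z * h⁻¹ * (h * (x * b * (t * n)) * h⁻¹)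
      have h1 := k1 z hz
      calc h * (x * b * (t * n)) * h⁻¹ * (h * z * h⁻¹) = h * ((x * b * (t * n)) * z) * h⁻¹ := by group
        _ = h * (z * (x * b * (t * n))) * h⁻¹ := by rw [h1]
        _ = _ := by group
    -- `s = y₁ y₂⁻¹`
    have es : (x * b * (t * n)) * (h * (x * b * (t * n)) * h⁻¹)⁻¹ =
        ((x * b) * (h⁻¹ * (x * b)⁻¹ * h⁻¹⁻¹)) * (h⁻¹ * h⁻¹) := by
      have e1 := C.inv h hh
      have e2 : t * h⁻¹ = h⁻¹ * t := C.comm t ht _ (inv_mem hh)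
      calc (x * b * (t * n)) * (h * (x * b * (t * n)) * h⁻¹)⁻¹
          = (x * b) * (t * (n * h * n⁻¹) * t⁻¹) * (x * b)⁻¹ * h⁻¹ := by group
        _ = (x * b) * (t * h⁻¹ * t⁻¹) * (x * b)⁻¹ * h⁻¹ := by rw [e1]
        _ = (x * b) * (h⁻¹ * t * t⁻¹) * (x * b)⁻¹ * h⁻¹ := by rw [e2]
        _ = _ := by group
    have hxb : x * b ∈ V := mul_mem hx hb
    have hv : (x * b) * (h⁻¹ * (x * b)⁻¹ * h⁻¹⁻¹) ∈ V := mul_mem hxb (C.tv _ (inv_mem hh) _ (inv_mem hxb))
    have k3 : ∀ z ∈ X₁ ⊓ X₂, (((x * b) * (h⁻¹ * (x * b)⁻¹ * h⁻¹⁻¹)) * (h⁻¹ * h⁻¹)) * z =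
        z * (((x * b) * (h⁻¹ * (x * b)⁻¹ * h⁻¹⁻¹)) * (h⁻¹ * h⁻¹)) := by
      intro z hz
      rw [← es]
      have h1 : Commute (x * b * (t * n)) z := k1 z hz.1
      have h2 : Commute (h * (x * b * (t * n)) * h⁻¹) z := k2 z hz.2
      exact (h1.mul_left h2.inv_left).eq
    have c3 := C.card_le hv (mul_mem (inv_mem hh) (inv_mem hh)) (C.sq_ne hh hh1) (inf_le_left.trans r1) k3
    have c4 : Nat.card X₁ * Nat.card X₂ ≤ Nat.card R * Nat.card (X₁ ⊓ X₂ : Subgroup G) := by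
      rw [← Cfsg.Agent.Lib.ProductSet.card_mul_card_inf X₁ X₂]
      refine Nat.mul_le_mul_right _ (Nat.card_mono (Set.toFinite (R : Set G)) ?_)
      rintro _ ⟨a, ha, b, hb, rfl⟩
      exact mul_mem (r1 ha) (r2 hb)
    rw [c1, c2, ← pow_two] at c4
    exact c4.trans (Nat.mul_le_mul_left _ c3)

/-- an element of `V` commuting with an element `≠ 1` of odd order of `M` lies in `R` -/
theorem mem_R {y a : G} (hy : y ∈ M) (hy1 : y ≠ 1) (ho : Odd (orderOf y)) (ha : a ∈ V) (hc : y * a = a * y) :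
    a ∈ R := by
  rcases C.form y hy with ⟨b, hb, t, ht, rfl⟩ | ⟨b, hb, t, ht, x, hx, rfl⟩
  · have ht1 : t ≠ 1 := by
      rintro rfl
      rw [mul_one] at hy1 ho
      obtain ⟨k, hk⟩ := C.p2 ⟨b, hb⟩
      have h1 : b ^ 2 ^ k = 1 := congrArg Subtype.val hk
      have h2 : orderOf b ∣ 2 ^ k := orderOf_dvd_of_pow_eq_one h1
      have h4 : (2 ^ k).Coprime (orderOf b) := (Nat.coprime_two_left.2 ho).pow_left k
      exact hy1 (orderOf_eq_one_iff.1 (Nat.eq_one_of_dvd_coprimes h4 h2 dvd_rfl))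
    obtain ⟨r, hr, y, hy', rfl⟩ := C.split b hb
    obtain ⟨r', hr', a, ha', rfl⟩ := C.split a ha
    -- `y t = s t s⁻¹` modulo `Y`
    let f : Y → Y := fun s => ⟨s * (t * (s : G)⁻¹ * t⁻¹), mul_mem s.2 (C.ty t ht _ (inv_mem s.2))⟩
    have hf : Function.Injective f := by
      intro s s' hss
      have h1 : (s : G) * (t * (s : G)⁻¹ * t⁻¹) = s' * (t * (s' : G)⁻¹ * t⁻¹) := congrArg Subtype.val hss
      have h2 : t * ((s' : G)⁻¹ * s) * t⁻¹ = (s' : G)⁻¹ * s := by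
        calc t * ((s' : G)⁻¹ * s) * t⁻¹
            = (s' : G)⁻¹ * (s' * (t * (s' : G)⁻¹ * t⁻¹)) * (t * s * t⁻¹) := by group
          _ = (s' : G)⁻¹ * (s * (t * (s : G)⁻¹ * t⁻¹)) * (t * s * t⁻¹) := by rw [h1]
          _ = _ := by group
      have h3 := C.fpf t ht ht1 _ (mul_mem (inv_mem s'.2) s.2) h2
      exact Subtype.ext (inv_mul_eq_one.1 h3).symm
    obtain ⟨s, hs⟩ := (Finite.surjective_of_injective hf) ⟨y, hy'⟩
    have hs' : (s : G) * (t * (s : G)⁻¹ * t⁻¹) = y := congrArg Subtype.val hs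
    have hsY := s.2
    -- modulo `R`
    have h1 : y * t * a * (y * t)⁻¹ * a⁻¹ ∈ Y := by
      have e : y * t * a * (y * t)⁻¹ * a⁻¹ = y * (t * a * t⁻¹) * y⁻¹ * a⁻¹ := by group
      rw [e]
      exact mul_mem (mul_mem (mul_mem hy' (C.ty t ht a ha')) (inv_mem hy')) (inv_mem ha')
    have h2 : y * t * a * (y * t)⁻¹ * a⁻¹ ∈ R := by
      have hy2 : y * t ∈ M := mul_mem (C.VM (C.YV hy')) (C.TM ht)
      have ha2 : a ∈ M := C.VM (C.YV ha')
      have e : y * t * a * (y * t)⁻¹ * a⁻¹ = (y * t * r' * (y * t)⁻¹)⁻¹ * (r⁻¹ * (r' * (a * r * a⁻¹))) := by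
        calc y * t * a * (y * t)⁻¹ * a⁻¹
            = (y * t * r' * (y * t)⁻¹)⁻¹ * (r⁻¹ * ((r * y * t * (r' * a)) * (y * t)⁻¹ * a⁻¹)) := by group
          _ = (y * t * r' * (y * t)⁻¹)⁻¹ * (r⁻¹ * ((r' * a * (r * y * t)) * (y * t)⁻¹ * a⁻¹)) := by rw [hc]
          _ = _ := by group
      rw [e]
      exact mul_mem (inv_mem (C.rn _ hy2 _ hr')) (mul_mem (inv_mem hr) (mul_mem hr' (C.rn _ ha2 _ hr)))
    have h3 := C.RY _ h1 h2
    have h4 : t * ((s : G)⁻¹ * a * s) * t⁻¹ = (s : G)⁻¹ * a * s := by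
      rw [← hs'] at h3
      have h5 : (s : G) * t * (s : G)⁻¹ * a * ((s : G) * t * (s : G)⁻¹)⁻¹ = a := by
        have : (s : G) * (t * (s : G)⁻¹ * t⁻¹) * t * a * ((s : G) * (t * (s : G)⁻¹ * t⁻¹) * t)⁻¹ = a :=
          mul_inv_eq_one.1 h3
        calc _ = (s : G) * (t * (s : G)⁻¹ * t⁻¹) * t * a * ((s : G) * (t * (s : G)⁻¹ * t⁻¹) * t)⁻¹ := by group
          _ = a := this
      calc t * ((s : G)⁻¹ * a * s) * t⁻¹ = (s : G)⁻¹ * ((s : G) * t * (s : G)⁻¹ * a * ((s : G) * t * (s : G)⁻¹)⁻¹) * s := by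
            group
        _ = _ := by rw [h5]
    have h5 := C.fpf t ht ht1 _ (mul_mem (mul_mem (inv_mem hsY) ha') hsY) h4
    have h6 : a = 1 := by
      have : a = s * ((s : G)⁻¹ * a * s) * (s : G)⁻¹ := by group
      rw [this, h5]
      group
    rw [h6, mul_one]
    exact hr'
  · -- `n (x a x⁻¹) n⁻¹ = t⁻¹ b⁻¹ a b t`
    have h1 : n * (x * a * x⁻¹) * n⁻¹ = t⁻¹ * (b⁻¹ * a * b) * t⁻¹⁻¹ := by
      calc n * (x * a * x⁻¹) * n⁻¹ = t⁻¹ * b⁻¹ * ((b * (t * n) * x) * a) * (b * (t * n) * x)⁻¹ * b * t := by group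
        _ = t⁻¹ * b⁻¹ * (a * (b * (t * n) * x)) * (b * (t * n) * x)⁻¹ * b * t := by rw [hc]
        _ = _ := by group
    have h2 : n * (x * a * x⁻¹) * n⁻¹ ∈ V := by
      rw [h1]
      exact C.tv _ (inv_mem ht) _ (mul_mem (mul_mem (inv_mem hb) ha) hb)
    have h3 := C.opp (mul_mem (mul_mem hx ha) (inv_mem hx)) h2
    have h4 := C.rn x⁻¹ (inv_mem (C.VM hx)) _ h3
    have e : x⁻¹ * (x * a * x⁻¹) * x⁻¹⁻¹ = a := by group
    rwa [e] at h4

/-- `V` is a Sylow 2-subgroup of `M` -/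
theorem exists_sylow : ∃ P : Sylow 2 M, (P : Subgroup M) = V.subgroupOf M := by
  have hfact : Fact (Nat.Prime 2) := ⟨Nat.prime_two⟩
  have hU2 : IsPGroup 2 (V.subgroupOf M) := C.p2.comap_of_injective M.subtype M.subtype_injective
  obtain ⟨P, hP⟩ := hU2.exists_le_sylow
  refine ⟨P, ?_⟩
  by_contra hne
  have hlt : V.subgroupOf M < (P : Subgroup M) := lt_of_le_of_ne hP (fun h => hne h.symm)
  have hnil : Group.IsNilpotent (P : Subgroup M) := P.2.isNilpotent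
  have hnc := (Group.normalizerCondition_of_isNilpotent (G := (P : Subgroup M))) ((V.subgroupOf M).subgroupOf P)
    (lt_top_iff_ne_top.2 fun h => by
      rw [Subgroup.subgroupOf_eq_top] at h
      exact absurd h (not_le_of_gt hlt))
  obtain ⟨g, hgN, hgU⟩ := SetLike.exists_of_lt hnc
  have hg : ∀ x ∈ V, ((g : M) : G) * x * ((g : M) : G)⁻¹ ∈ V := by
    intro x hx
    have h1 := (Subgroup.mem_normalizer_iff.1 hgN ⟨⟨x, C.VM hx⟩, hP (mem_subgroupOf.2 hx)⟩).1 hx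
    exact h1
  have hgV : ((g : M) : G) ∉ V := fun h => hgU h
  rcases C.form _ (g : M).2 with ⟨b, hb, t, ht, e⟩ | ⟨b, hb, t, ht, x, hx, e⟩
  · apply hgV
    have h1 : (⟨t, C.TM ht⟩ : M) ∈ (P : Subgroup M) := by
      have h2 : (⟨t, C.TM ht⟩ : M) = (⟨b, C.VM hb⟩ : M)⁻¹ * (g : M) := by
        apply Subtype.ext
        show t = b⁻¹ * ((g : M) : G)
        rw [e]
        group
      rw [h2]
      exact mul_mem (inv_mem (hP (mem_subgroupOf.2 hb))) g.2
    obtain ⟨k, hk⟩ := P.2 ⟨_, h1⟩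
    have h3 : t ^ 2 ^ k = 1 := congrArg (fun z : (P : Subgroup M) => ((z : M) : G)) hk
    have h5 : orderOf t ∣ 2 ^ k := orderOf_dvd_of_pow_eq_one h3
    have h6 : (2 ^ k).Coprime (orderOf t) := (Nat.coprime_two_left.2 (C.odd_order ht)).pow_left k
    have h7 := orderOf_eq_one_iff.1 (Nat.eq_one_of_dvd_coprimes h6 h5 dvd_rfl)
    rw [e, h7, mul_one]
    exact hb
  · apply C.R_ne_V
    refine le_antisymm C.RV fun v hv => ?_
    apply C.opp hv
    have h1 := hg (x⁻¹ * v * x) (mul_mem (mul_mem (inv_mem hx) hv) hx)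
    have e1 : n * v * n⁻¹ = t⁻¹ * (b⁻¹ * (((g : M) : G) * (x⁻¹ * v * x) * ((g : M) : G)⁻¹) * b) * t⁻¹⁻¹ := by
      rw [e]
      group
    rw [e1]
    exact C.tv _ (inv_mem ht) _ (mul_mem (mul_mem (inv_mem hb) h1) hb)

/-- the 2-elements of `M` are conjugate into `V` -/
theorem exists_conj {a : G} (ha : a ∈ M) {k : ℕ} (hk : a ^ 2 ^ k = 1) : ∃ m ∈ M, m * a * m⁻¹ ∈ V := by
  have hfact : Fact (Nat.Prime 2) := ⟨Nat.prime_two⟩
  obtain ⟨P, hP⟩ := C.exists_sylow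
  have h1 : IsPGroup 2 (zpowers (⟨a, ha⟩ : M)) := by
    obtain ⟨j, -, hj⟩ := (Nat.dvd_prime_pow Nat.prime_two).1 (orderOf_dvd_of_pow_eq_one hk)
    refine IsPGroup.of_card (n := j) ?_
    rw [Nat.card_zpowers, Subgroup.orderOf_mk, hj]
  obtain ⟨Q, hQ⟩ := h1.exists_le_sylow
  obtain ⟨m, hm⟩ := MulAction.exists_smul_eq M Q P
  refine ⟨m, m.2, ?_⟩
  have h2 : m * ⟨a, ha⟩ * m⁻¹ ∈ (P : Subgroup M) := by
    rw [← hm, Sylow.coe_subgroup_smul, mem_pointwise_smul_iff_inv_smul_mem, ← map_inv, MulAut.smul_def,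
      MulAut.conj_apply, inv_inv]
    have e : m⁻¹ * (m * ⟨a, ha⟩ * m⁻¹) * m = ⟨a, ha⟩ := by group
    rw [e]
    exact hQ (mem_zpowers _)
  rw [hP] at h2
  exact mem_subgroupOf.1 h2

/-- **2-subgroups of `M` commuting with an element `≠ 1` of odd order of `M`** -/
theorem le_R {y : G} (hy : y ∈ M) (hy1 : y ≠ 1) (ho : Odd (orderOf y)) {X : Subgroup G} (hX : X ≤ M)
    (h2 : IsPGroup 2 X) (hc : ∀ x ∈ X, y * x = x * y) : X ≤ R := by
  intro a ha
  obtain ⟨k, hk⟩ := h2 ⟨a, ha⟩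
  have hk' : a ^ 2 ^ k = 1 := congrArg Subtype.val hk
  obtain ⟨m, hm, h1⟩ := C.exists_conj (hX ha) hk'
  have h3 : m * a * m⁻¹ ∈ R := by
    refine C.mem_R (y := m * y * m⁻¹) (mul_mem (mul_mem hm hy) (inv_mem hm)) ?_ ?_ h1 ?_
    · intro h
      exact hy1 (conj_eq_one_iff.1 h)
    · have e : m * y * m⁻¹ = MulAut.conj m y := rfl
      rw [e, MulEquiv.orderOf_eq]
      exact ho
    · have e := hc a ha
      calc m * y * m⁻¹ * (m * a * m⁻¹) = m * (y * a) * m⁻¹ := by group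
        _ = m * (a * y) * m⁻¹ := by rw [e]
        _ = _ := by group
  have h4 := C.rn m⁻¹ (inv_mem hm) _ h3
  have e : m⁻¹ * (m * a * m⁻¹) * m⁻¹⁻¹ = a := by group
  rwa [e] at h4

end RC

end Cfsg.Agent.H743.AH
end

-- part: H743/AH/RankOne
section
/-!
# S2451 for rank one groups (helper743)

Rank one Bruhat data `Data B U w`, `U` a Sylow `p`-subgroup:

* `notC_of_data` : **`NotC p G` if the two-point stabiliser is commutative and not centralised by `w`;**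
* `notA_of_data` : **`NotA p G` if the centralisers in `U` of the `p`-regular elements of `B` are small.**
-/

set_option autoImplicit false
set_option linter.unusedSectionVars false

namespace Cfsg.Agent.H743.AH

open Subgroup Cfsg.Agent.LieRecognition.RankOneAbstract Cfsg.Agent.H27.AH Cfsg.Agent.H330.ClassProd

variable {G : Type*} [Group G] {B U : Subgroup G} {w : G} {p : ℕ}

/-- `p`-elements of `B` lie in the normal Sylow subgroup `U` -/
theorem mem_of_pelt [Fact p.Prime] (P : Sylow p G) (hP : (P : Subgroup G) = U)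
    (hn : ∀ b ∈ B, ∀ u ∈ U, b * u * b⁻¹ ∈ U) {b : G} (hb : b ∈ B) {k : ℕ} (hk : orderOf b = p ^ k) : b ∈ U := by
  have hN : ∀ z ∈ zpowers b, ∀ u ∈ U, z * u * z⁻¹ ∈ U := fun z hz => hn z ((zpowers_le.2 hb) hz)
  have h1 : zpowers b ≤ normalizer (U : Set G) := by
    intro z hz
    rw [mem_normalizer_iff]
    intro u
    refine ⟨hN z hz u, fun h => ?_⟩
    have h2 := hN z⁻¹ (inv_mem hz) _ h
    have e : z⁻¹ * (z * u * z⁻¹) * z⁻¹⁻¹ = u := by group
    rwa [e] at h2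
  have hz : IsPGroup p (zpowers b) := IsPGroup.of_card (n := k) (by rw [Nat.card_zpowers, hk])
  have hU : IsPGroup p U := by rw [← hP]; exact P.isPGroup'
  have h2 : IsPGroup p (zpowers b ⊔ U : Subgroup G) := hz.to_sup_of_normal_right' hU h1
  have h3 := P.is_maximal' h2 (by rw [hP]; exact le_sup_right)
  have h4 : b ∈ (zpowers b ⊔ U : Subgroup G) := mem_sup_left (mem_zpowers b)
  rw [h3, hP] at h4
  exact h4

/-- an element outside of `B` is conjugate to an element of `w B` -/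
theorem exists_conj (D : Data B U w) [hs : IsSimpleGroup G] {g : G} (hg : g ≠ 1) :
    ∃ x : G, ∃ β ∈ B, x * g * x⁻¹ = w * β := by
  obtain ⟨x, hx⟩ : ∃ x : G, x * g * x⁻¹ ∉ B := by
    by_contra hcon
    push Not at hcon
    have h1 : g ∈ B.normalCore := hcon
    rcases hs.eq_bot_or_eq_top_of_normal B.normalCore inferInstance with h | h
    · rw [h, mem_bot] at h1
      exact hg h1
    · apply D.w_not_mem
      have h2 : w ∈ B.normalCore := by rw [h]; trivial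
      exact normalCore_le B h2
  obtain ⟨s, hs', h⟩ := D.bruhat _ hx
  refine ⟨s⁻¹ * x, ((s * w)⁻¹ * (x * g * x⁻¹)) * s, mul_mem h (D.le hs'), ?_⟩
  group

/-- decomposition of the elements of `B` -/
theorem exists_tor (D : Data B U w) {b : G} (hb : b ∈ B) :
    ∃ u ∈ U, ∃ t ∈ B, w⁻¹ * t * w ∈ B ∧ b = u * t := by
  have h1 : b * w ∉ B := fun h => D.w_not_mem (by
    have := B.mul_mem (B.inv_mem hb) h
    rwa [inv_mul_cancel_left] at this)
  obtain ⟨s, hs, h⟩ := D.bruhat _ h1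
  refine ⟨s, hs, s⁻¹ * b, mul_mem (inv_mem (D.le hs)) hb, ?_, by group⟩
  have e : w⁻¹ * (s⁻¹ * b) * w = (s * w)⁻¹ * (b * w) := by group
  rwa [e]

/-- **(C) in rank one.** -/
theorem notC_of_data [Finite G] [hp : Fact p.Prime] [hs : IsSimpleGroup G] (D : Data B U w) (P : Sylow p G)
    (hP : (P : Subgroup G) = U)
    (hab : ∀ s ∈ B, ∀ t ∈ B, w⁻¹ * s * w ∈ B → w⁻¹ * t * w ∈ B → s * t = t * s)
    (hw : ∀ t ∈ B, w⁻¹ * t * w ∈ B → w⁻¹ * (w⁻¹ * t * w) * w ∈ B)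
    (hne : ∃ t ∈ B, w⁻¹ * t * w ∈ B ∧ w⁻¹ * t * w ≠ t) : NotC p G := by
  intro a b c ha hb hc hab' ⟨k, hk⟩
  obtain ⟨x, β, hβ, hx⟩ := exists_conj D (inv_ne_one.2 ha)
  obtain ⟨y, β', hβ', hy⟩ := exists_conj D hb
  obtain ⟨u, hu, t, ht, htw, rfl⟩ := exists_tor D hβ
  obtain ⟨u', hu', t', ht', htw', rfl⟩ := exists_tor D hβ'
  have key : ∀ h ∈ B, w⁻¹ * h * w ∈ B → t⁻¹ * (w⁻¹ * h * w) * t' * h⁻¹ = 1 := by
    intro h hh hhw
    have h1 := hab' x (h * y)
    have h2 : orderOf (x * a * x⁻¹ * (h * y * b * (h * y)⁻¹)) = p ^ k := by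
      rw [orderOf_of_isConj h1, hk]
    have e1 : x * a * x⁻¹ = (u * t)⁻¹ * w⁻¹ := by
      have : x * a * x⁻¹ = (x * a⁻¹ * x⁻¹)⁻¹ := by group
      rw [this, hx]
      group
    have e2 : h * y * b * (h * y)⁻¹ = h * w * (u' * t') * h⁻¹ := by
      have : h * y * b * (h * y)⁻¹ = h * (y * b * y⁻¹) * h⁻¹ := by group
      rw [this, hy]
      group
    rw [e1, e2] at h2
    have e3 : (u * t)⁻¹ * w⁻¹ * (h * w * (u' * t') * h⁻¹) =
        (t⁻¹ * u⁻¹ * t⁻¹⁻¹) * ((t⁻¹ * (w⁻¹ * h * w)) * u' * (t⁻¹ * (w⁻¹ * h * w))⁻¹) *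
          (t⁻¹ * (w⁻¹ * h * w) * t' * h⁻¹) := by group
    have h3 : t⁻¹ * (w⁻¹ * h * w) * t' * h⁻¹ ∈ B :=
      mul_mem (mul_mem (mul_mem (inv_mem ht) hhw) ht') (inv_mem hh)
    have h4 : t⁻¹ * u⁻¹ * t⁻¹⁻¹ ∈ U := D.norm _ (inv_mem ht) _ (inv_mem hu)
    have h5 : (t⁻¹ * (w⁻¹ * h * w)) * u' * (t⁻¹ * (w⁻¹ * h * w))⁻¹ ∈ U :=
      D.norm _ (mul_mem (inv_mem ht) hhw) _ hu'
    rw [e3] at h2
    have h6 := mem_of_pelt P hP D.norm (mul_mem (D.le (mul_mem h4 h5)) h3) h2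
    have h7 := mul_mem (inv_mem (mul_mem h4 h5)) h6
    rw [inv_mul_cancel_left] at h7
    refine D.inter _ h7 ?_
    have e4 : w⁻¹ * (t⁻¹ * (w⁻¹ * h * w) * t' * h⁻¹) * w =
        (w⁻¹ * t * w)⁻¹ * (w⁻¹ * (w⁻¹ * h * w) * w) * (w⁻¹ * t' * w) * (w⁻¹ * h * w)⁻¹ := by group
    rw [e4]
    exact mul_mem (mul_mem (mul_mem (inv_mem htw) (hw h hh hhw)) htw') (inv_mem hhw)
  have h1 : t' = t := by
    have h2 := key 1 (one_mem B) (by rw [mul_one, inv_mul_cancel]; exact one_mem B)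
    have e : t⁻¹ * (w⁻¹ * 1 * w) * t' * (1 : G)⁻¹ = t⁻¹ * t' := by group
    rw [e] at h2
    exact (inv_mul_eq_one.1 h2).symm
  obtain ⟨h, hh, hhw, hhne⟩ := hne
  apply hhne
  have h2 := key h hh hhw
  rw [h1] at h2
  have h3 : (w⁻¹ * h * w) * t = t * (w⁻¹ * h * w) := hab _ hhw _ ht (hw h hh hhw) htw
  rw [mul_assoc t⁻¹, h3, inv_mul_cancel_left] at h2
  exact mul_inv_eq_one.1 h2

/-- `U` is a TI subgroup -/
theorem mem_of_ti (D : Data B U w) {x y : G} (hy : y ∈ U) (hy1 : y ≠ 1) (hxy : x * y * x⁻¹ ∈ U) : x ∈ B := by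
  by_contra hx
  have hx' : x⁻¹ ∉ B := fun h => hx (by simpa using inv_mem h)
  obtain ⟨s, hs, h⟩ := D.bruhat _ hx'
  apply hy1
  have h1 : w⁻¹ * (s⁻¹ * y * s) * w ∈ B := by
    have h2 : w⁻¹ * (s⁻¹ * y * s) * w = ((s * w)⁻¹ * x⁻¹) * (x * y * x⁻¹) * ((s * w)⁻¹ * x⁻¹)⁻¹ := by group
    rw [h2]
    exact mul_mem (mul_mem h (D.le hxy)) (inv_mem h)
  have h2 := D.inter _ (mul_mem (mul_mem (inv_mem hs) hy) hs) h1
  have h3 : y = s * (s⁻¹ * y * s) * s⁻¹ := by group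
  rw [h3, h2]
  group

/-- **(A) in rank one.** -/
theorem notA_of_data [Finite G] [hp : Fact p.Prime] (hS : FixBN.HasSplit p G) (D : Data B U w) (P : Sylow p G)
    (hP : (P : Subgroup G) = U) (hU : U ≠ ⊥)
    (hC : ∀ u ∈ U, ∀ t ∈ B, w⁻¹ * t * w ∈ B → t ≠ 1 → ∀ X : Subgroup G, X ≤ U →
      (∀ y ∈ X, (u * t) * y = y * (u * t)) → Nat.card X ^ 2 < Nat.card U) : NotA p G := by
  have hUc : Nat.card U = p ^ (Nat.card G).factorization p := by
    rw [← hP]
    exact P.card_eq_multiplicity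
  have hU1 : 1 < Nat.card U := by
    by_contra h
    have h1 : Nat.card U = 1 := le_antisymm (not_lt.1 h) Nat.card_pos
    exact hU (Subgroup.eq_bot_of_card_eq _ h1)
  have key : ∀ x : G, x ≠ 1 → ¬ p ∣ orderOf x → cv p x + cv p x < (Nat.card G).factorization p := by
    intro x hx hxp
    obtain ⟨X, hX⟩ := Sylow.exists_subgroup_card_pow_prime (G := centralizer ({x} : Set G)) p
      (n := cv p x) (Nat.ordProj_dvd _ _)
    obtain ⟨Y, hYd⟩ : ∃ Y : Subgroup G, Y = X.map (centralizer ({x} : Set G)).subtype := ⟨_, rfl⟩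
    have hY : Nat.card Y = p ^ cv p x := by
      rw [hYd, card_map_of_injective (subtype_injective _), hX]
    have hYx : ∀ y ∈ Y, x * y = y * x := by
      rw [hYd]
      rintro _ ⟨y, -, rfl⟩
      exact (mem_centralizer_singleton_iff.1 y.2).symm
    obtain ⟨Q, hQ⟩ := (IsPGroup.of_card hY).exists_le_sylow
    obtain ⟨g, hg⟩ := MulAction.exists_smul_eq G Q P
    have hgU : ∀ y ∈ Y, g * y * g⁻¹ ∈ U := by
      intro y hy
      rw [← hP, ← hg, Sylow.coe_subgroup_smul, mem_pointwise_smul_iff_inv_smul_mem]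
      have e : (MulAut.conj g)⁻¹ • (g * y * g⁻¹) = y := by
        rw [MulAut.smul_def, MulAut.conj_inv_apply]
        group
      rw [e]
      exact hQ hy
    obtain ⟨X', hX'd⟩ : ∃ X' : Subgroup G, X' = Y.map (MulAut.conj g).toMonoidHom := ⟨_, rfl⟩
    have hX'c : Nat.card X' = p ^ cv p x := by
      rw [hX'd, card_map_of_injective (MulAut.conj g).injective, hY]
    have hX'U : X' ≤ U := by
      rw [hX'd]
      rintro _ ⟨y, hy, rfl⟩
      exact hgU y hy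
    have hX'x : ∀ y ∈ X', (g * x * g⁻¹) * y = y * (g * x * g⁻¹) := by
      rw [hX'd]
      rintro _ ⟨y, hy, rfl⟩
      change g * x * g⁻¹ * (g * y * g⁻¹) = g * y * g⁻¹ * (g * x * g⁻¹)
      calc g * x * g⁻¹ * (g * y * g⁻¹) = g * (x * y) * g⁻¹ := by group
        _ = g * (y * x) * g⁻¹ := by rw [hYx y hy]
        _ = _ := by group
    have h2 : Nat.card X' ^ 2 < Nat.card U := by
      by_cases hbot : X' = ⊥
      · rw [hbot, card_bot, one_pow]
        exact hU1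
      · obtain ⟨y, hy, hy1⟩ : ∃ y ∈ X', y ≠ 1 := by
          obtain ⟨⟨y, hy⟩, hy1⟩ := Subgroup.ne_bot_iff_exists_ne_one.1 hbot
          exact ⟨y, hy, fun h => hy1 (Subtype.ext h)⟩
        have hB : g * x * g⁻¹ ∈ B := by
          refine mem_of_ti D (hX'U hy) hy1 ?_
          rw [hX'x _ hy, mul_inv_cancel_right]
          exact hX'U hy
        obtain ⟨u, hu, t, ht, htw, he⟩ := exists_tor D hB
        refine hC u hu t ht htw ?_ X' hX'U (by rw [← he]; exact hX'x)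
        rintro rfl
        rw [mul_one] at he
        have h3 : g * x * g⁻¹ ∈ U := by rw [he]; exact hu
        have hUp : IsPGroup p U := by rw [← hP]; exact P.isPGroup'
        obtain ⟨k, hk⟩ := (IsPGroup.iff_orderOf.1 hUp) ⟨_, h3⟩
        rw [Subgroup.orderOf_mk, orderOf_of_isConj (isConj_iff.2 ⟨g, rfl⟩)] at hk
        rcases k with _ | k
        · rw [pow_zero, orderOf_eq_one_iff] at hk
          exact hx hk
        · exact hxp (by rw [hk]; exact dvd_pow_self p (Nat.succ_ne_zero k))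
    rw [hX'c, hUc, ← pow_mul] at h2
    have h3 := (Nat.pow_lt_pow_iff_right hp.out.one_lt).1 h2
    omega
  intro a b c ha hb hc hab h1 h2 h3
  have h4 := hab.cv_add hS h1 h2
  have h5 := key a ha h1
  have h6 := key b hb h2
  omega

end Cfsg.Agent.H743.AH
end

-- part: H743/AH/TwFA
section
/-!
# S2451, (A) for the groups `²F₄(q)`, `q > 2` (helper743)

* `cent_aux` : centralisers of the elements of odd order;
* `notA_twF4` : **`NotA 2 G`.**
-/

set_option autoImplicit false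
set_option linter.unusedSectionVars false

namespace Cfsg.Agent.H743.AH.TwF

open Cfsg.Agent.SplitTwo Cfsg.Agent.SplitTwo.ZS Cfsg.Agent.TitsThree.RankTwoZ Cfsg.Agent.KFacts.TwF4
open Cfsg.Agent.KFacts.TwF4.Full Cfsg.Agent.KFacts.TwF4.SylU Cfsg.Agent.KFacts.TwF4.Inv Cfsg.Agent.KFacts.TwF4.Arc
open Cfsg.Agent.KFacts.TwF4.Perf (Q_norm NO_norm NO_HO X1_HO n1_mem_HO HO_le_J HO_form)
open Cfsg.Agent.SplitTwo.RootSysZ Subgroup

universe u

variable {F : Type*} [Field F] {σ : F →+* F} {G : Type u} [Group G] (S : Full σ G)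

theorem mem_T4_of_PL {t : G} (ht : t ∈ S.T) (h5 : t ∈ S.PL) : t ∈ S.Tk 4 := by
  refine ⟨ht, Subgroup.mem_centralizer_iff.2 fun y hy => ?_⟩
  obtain ⟨c, d, rfl⟩ := S.mem_T.1 ht
  have h6 := S.comm_PL h5 (z := S.e 2 0 1) ⟨1, rfl⟩
  have h7 := S.h_e c d 2 0 1
  rw [h6, mul_inv_cancel_right, mul_one] at h7
  have h8 : chE σ 2 c d = 1 := S.unit_eq_one (Units.ext (S.injE 2 _ _ _ _ h7).2.symm)
  obtain ⟨p, u, rfl⟩ := S.X4 hy
  have h9 := S.h_e c d 2 p u
  rw [h8, Units.val_one, one_mul, map_one, one_mul, one_mul, mul_inv_eq_iff_eq_mul] at h9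
  exact h9.symm

theorem T4_le_PL [Finite F] : S.Tk 4 ≤ S.PL := by
  intro t ht
  rw [← S.centralizer_z (z := S.e 2 0 1) ⟨1, rfl⟩ (fun h => one_ne_zero (S.e_eq_one h).2),
    Subgroup.mem_centralizer_singleton_iff]
  exact S.Tk_comm ht (S.mX4 0 1)

theorem Tk_ne_bot (hF : ∃ c : Fˣ, c ≠ 1) (k : ℤ) : S.Tk k ≠ ⊥ := by
  obtain ⟨t, ht, ht1⟩ := AutTau.exists_Tk S hF k
  intro h
  rw [h, mem_bot] at ht
  exact ht1 ht

theorem rcPL [Finite F] [Finite G] (hF : ∃ c : Fˣ, c ≠ 1) (hR : S.R.p = 2) :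
    RC S.PL (J S.XZ 1 8) S.Q (S.XZ 8) (S.XZ 4) (S.Tk 4) S.n2 where
  VM := J_mono (by norm_num) le_rfl
  RV := J_mono le_rfl (by norm_num)
  YV := X_le_J (by norm_num) le_rfl
  DR := X_le_J (by norm_num) (by norm_num)
  TM := T4_le_PL S
  nM := S.n2_mem
  split := fun v hv => by
    obtain ⟨y, hy, r, hr, e⟩ := S.zsys8.split_rr (a := 1) (b := 8) (by norm_num) (by norm_num) hv
    exact ⟨y, hy, r, hr, e⟩
  RY := fun y hy hy' => S.zsys8.inter' (k := 8) hy hy'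
  tv := fun t ht x hx => S.T_conj_J ht.1 hx
  ty := fun t ht x hx => S.T_conj ht.1 8 hx
  rn := fun m hm x hx => Q_norm S hm hx
  comm := fun s hs t ht => S.T_comm hs.1 ht.1
  p2 := isPGroup_J S.zsys8 (two_X S hR) 8 1 8 (by norm_num) (by norm_num)
  odd := Odd.of_dvd_nat (AutNorm.odd_T S) (Subgroup.card_dvd_of_le (S.Tk_le 4))
  inv := fun t ht => S.n2_Tk ht
  form := fun g hg => by
    rcases S.form_PL hg with ⟨b, hb, t, ht, e⟩ | ⟨b, hb, t, ht, x, hx, e⟩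
    · have hbP : b ∈ S.PL := J_mono (by norm_num) le_rfl hb
      have : t = b⁻¹ * g := by rw [e]; group
      exact Or.inl ⟨b, hb, t, mem_T4_of_PL S ht (by rw [this]; exact mul_mem (inv_mem hbP) hg), e⟩
    · have hbP : b ∈ S.PL := J_mono (by norm_num) le_rfl hb
      have hxP : x ∈ S.PL := mem_J hx (by norm_num) le_rfl
      have : t = b⁻¹ * g * x⁻¹ * S.n2⁻¹ := by rw [e]; group
      exact Or.inr ⟨b, hb, t, mem_T4_of_PL S ht (by
        rw [this]; exact mul_mem (mul_mem (mul_mem (inv_mem hbP) hg) (inv_mem hxP)) (inv_mem S.n2_mem)), x,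
        mem_J hx (by norm_num) le_rfl, e⟩
  oppY := fun y hy h => by
    have h1 : S.n2 * y * S.n2⁻¹ ∈ S.XZ 0 := S.n2_refl.mem' hy (by norm_num)
    have h2 := (S.J07_inf_UT h1 h (one_mem _) (by rw [mul_one])).1
    exact conj_eq_one_iff.1 h2
  fpf := fun t ht ht1 y hy h => S.fpf (k := 4) (j := 8) (by norm_num) ht ht1 hy h
  fix := fun t ht ht1 x hx h => S.fix_J ht ht1 (a := 1) (b := 7) (by norm_num) (by norm_num) (by norm_num) hx h
  Yne := S.zsys8.ne_bot 8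
  Tne := Tk_ne_bot S hF 4

/-- `X_9 ∩ U = 1` -/
theorem inter_nine (hF : ∃ c : Fˣ, c ≠ 1) {x : G} (hx : x ∈ S.XZ 9) (hx' : x ∈ J S.XZ 1 8) : x = 1 := by
  have Z8 := S.zsys8
  obtain ⟨r, hr, y, hy, e⟩ := Z8.split_ll (a := 1) (b := 8) (by norm_num) (by norm_num) hx'
  have hr9 : r ∈ J S.XZ 2 9 := by
    have : r = x * y⁻¹ := by rw [e]; group
    rw [this]
    exact mul_mem (mem_J hx (by norm_num) le_rfl) (inv_mem (J_mono le_rfl (by norm_num) hy))
  obtain ⟨c, hc⟩ := hF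
  have ht1 : S.h c c⁻¹ ∈ S.Tk 1 := S.mem_Tk_one.2 ⟨c, rfl⟩
  have ht9 : S.h c c⁻¹ ∈ S.Tk 9 := by
    have := (AutTau.mem_Tk_odd S 4 c c⁻¹).2 (by
      show chE σ 4 c c⁻¹ * chE σ 5 c c⁻¹ = 1
      rw [chE_four, chE_five, inv_inv, inv_mul_cancel])
    norm_num at this
    exact this
  have hne : S.h c c⁻¹ ≠ 1 := by
    intro h
    rw [← S.h_one] at h
    exact hc (S.h_inj _ _ _ _ h).1
  have h1 := S.fix_J ht9 hne (a := 2) (b := 9) (by norm_num) (by norm_num) (by norm_num) hr9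
    (by rw [S.Tk_comm ht1 hr, mul_inv_cancel_right])
  have h2 := S.X_inf_opp hr h1
  rw [h2, one_mul] at e
  exact Z8.inter' (k := 9) hx (by rw [e]; exact hy)

/-- elements of `T ⟨X_1, …, X_9⟩` centralising `X_5` -/
theorem T_of_HO {t y : G} (ht : t ∈ S.T) (hy : y ∈ J S.XZ 1 9) (h : t * y ∈ S.HO) : t ∈ S.LO ∧ t ∈ S.Tk 5 := by
  have key : ∀ s, t * S.o 2 s * t⁻¹ = S.o 2 s := by
    intro s
    have h1 := S.mem_centralizer_X5.1 (S.HO_le_cent h) s
    have h2 := S.comm_five hy (S.mX5 s)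
    have h3 : (t * (y * S.o 2 s * y⁻¹ * (S.o 2 s)⁻¹) * t⁻¹) * (t * S.o 2 s * t⁻¹) = S.o 2 s := by
      calc (t * (y * S.o 2 s * y⁻¹ * (S.o 2 s)⁻¹) * t⁻¹) * (t * S.o 2 s * t⁻¹)
          = (t * y * S.o 2 s) * (t * y)⁻¹ := by group
        _ = _ := by rw [h1]; group
    have h4 := S.T_conj_W46 ht h2
    have h5 : t * (y * S.o 2 s * y⁻¹ * (S.o 2 s)⁻¹) * t⁻¹ ∈ S.XZ 5 := by
      have : t * (y * S.o 2 s * y⁻¹ * (S.o 2 s)⁻¹) * t⁻¹ = S.o 2 s * (t * S.o 2 s * t⁻¹)⁻¹ := by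
        rw [eq_mul_inv_iff_mul_eq]; exact h3
      rw [this]
      exact mul_mem (S.mX5 s) (inv_mem (S.T_conj ht 5 (S.mX5 s)))
    rw [S.W46_inf h4 h5, one_mul] at h3
    exact h3
  refine ⟨S.T_five ht one_ne_zero (key 1), ht, Subgroup.mem_centralizer_iff.2 fun x hx => ?_⟩
  obtain ⟨s, rfl⟩ := S.X5 hx
  have h1 := key s
  rw [mul_inv_eq_iff_eq_mul] at h1
  exact h1.symm

theorem mem_NO {y : G} (hy : y ∈ J S.XZ 2 8) (h : y ∈ S.HO) : y ∈ S.NO := ⟨hy, S.HO_le_cent h⟩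

theorem rcHO [Finite F] [Finite G] (hF : ∃ c : Fˣ, c ≠ 1) (hR : S.R.p = 2) :
    RC S.HO (J S.XZ 1 8 ⊓ S.HO) S.NO (S.XZ 1) (S.XZ 5) (S.Tk 5) S.n1 where
  VM := inf_le_right
  RV := le_inf (inf_le_left.trans (J_mono (by norm_num) le_rfl)) (NO_HO S)
  YV := le_inf (X_le_J le_rfl (by norm_num)) (X1_HO S)
  DR := (X_le_J (by norm_num) (by norm_num)).trans S.J37_le
  TM := fun t ht => Subgroup.mem_sup_left (S.T_five ht.1 one_ne_zero (by
    rw [S.Tk_comm ht (S.mX5 1), mul_inv_cancel_right]))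
  nM := n1_mem_HO S
  split := fun v hv => by
    obtain ⟨y, hy, r, hr, e⟩ := S.zsys8.split_lr (a := 1) (b := 8) (by norm_num) (by norm_num) hv.1
    refine ⟨y, mem_NO S hy ?_, r, hr, e⟩
    have : y = v * r⁻¹ := by rw [e]; group
    rw [this]
    exact mul_mem hv.2 (inv_mem (X1_HO S hr))
  RY := fun y hy hy' => S.zsys8.inter 1 y hy (by norm_num; exact hy'.1)
  tv := fun t ht x hx => by
    have h1 : t ∈ S.HO := Subgroup.mem_sup_left (S.T_five ht.1 one_ne_zero (by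
      rw [S.Tk_comm ht (S.mX5 1), mul_inv_cancel_right]))
    exact ⟨S.T_conj_J ht.1 hx.1, S.HO.mul_mem (S.HO.mul_mem h1 hx.2) (S.HO.inv_mem h1)⟩
  ty := fun t ht x hx => S.T_conj ht.1 1 hx
  rn := fun m hm x hx => NO_norm S hm hx
  comm := fun s hs t ht => S.T_comm hs.1 ht.1
  p2 := (isPGroup_J S.zsys8 (two_X S hR) 8 1 8 (by norm_num) (by norm_num)).to_le inf_le_left
  odd := Odd.of_dvd_nat (AutNorm.odd_T S) (Subgroup.card_dvd_of_le (S.Tk_le 5))
  inv := fun t ht => by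
    obtain ⟨c, d, rfl⟩ := S.mem_T.1 ht.1
    have h1 := (AutTau.mem_Tk_odd S 2 c d).1 (by norm_num; exact ht)
    have h2 : chE σ 2 c d * chE σ 3 c d = 1 := h1
    rw [chE_two, chE_three] at h2
    have h3 : d / c = 1 := by
      apply S.unit_eq_one
      rw [map_div, ← h2, div_mul_div_comm, div_mul_div_comm, mul_comm d, mul_comm c]
    rw [div_eq_one] at h3
    rw [h3, S.n1_h, S.h_inv]
  form := fun g hg => by
    have Z8 := S.zsys8
    obtain ⟨b, hb, t, ht, e | ⟨b', hb', e⟩⟩ := HO_form S hg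
    · have e1 : g = t * (t⁻¹ * b * t⁻¹⁻¹) := by rw [e]; group
      have h1 := T_of_HO S ht (J_mono le_rfl (by norm_num) (S.T_conj_J (inv_mem ht) hb)) (by rw [← e1]; exact hg)
      have e2 : b = g * t⁻¹ := by rw [e]; group
      refine Or.inl ⟨b, ⟨hb, ?_⟩, t, h1.2, e⟩
      show b ∈ S.HO
      rw [e2]
      exact S.HO.mul_mem hg (S.HO.inv_mem (Subgroup.mem_sup_left h1.1))
    · obtain ⟨r, hr, y, hy, rfl⟩ := Z8.split_ll (a := 1) (b := 8) (by norm_num) (by norm_num) hb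
      obtain ⟨y', hy', r', hr', rfl⟩ := Z8.split_lr (a := 1) (b := 8) (by norm_num) (by norm_num) hb'
      have hq : S.n1⁻¹ * (t⁻¹ * y * t⁻¹⁻¹) * S.n1 * y' ∈ J S.XZ 2 8 :=
        mul_mem (S.n1_refl.mem_J_inv (S.T_conj_J (inv_mem ht) hy) (by norm_num) (by norm_num)) hy'
      have hr1 := X1_HO S hr
      have hr1' := X1_HO S hr'
      have e1 : r⁻¹ * g * r'⁻¹ = t * (S.n1 * (S.n1⁻¹ * (t⁻¹ * y * t⁻¹⁻¹) * S.n1 * y')) := by rw [e]; group
      have h0 : r⁻¹ * g * r'⁻¹ ∈ S.HO := mul_mem (mul_mem (inv_mem hr1) hg) (inv_mem hr1')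
      have h1 := T_of_HO S ht (mul_mem (S.LO_le_J S.n1_mem_LO) (J_mono (by norm_num) (by norm_num) hq))
        (by rw [← e1]; exact h0)
      have h2 : t ∈ S.HO := Subgroup.mem_sup_left h1.1
      have h3 : S.n1⁻¹ * (t⁻¹ * y * t⁻¹⁻¹) * S.n1 * y' ∈ S.HO := by
        have : S.n1⁻¹ * (t⁻¹ * y * t⁻¹⁻¹) * S.n1 * y' = S.n1⁻¹ * (t⁻¹ * (r⁻¹ * g * r'⁻¹)) := by rw [e1]; group
        rw [this]
        exact mul_mem (inv_mem (n1_mem_HO S)) (mul_mem (inv_mem h2) h0)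
      refine Or.inr ⟨r, ⟨X_le_J le_rfl (by norm_num) hr, hr1⟩, t, h1.2,
        S.n1⁻¹ * (t⁻¹ * y * t⁻¹⁻¹) * S.n1 * y' * r',
        ⟨mul_mem (J_mono (by norm_num) le_rfl hq) (X_le_J le_rfl (by norm_num) hr'), S.HO.mul_mem h3 hr1'⟩, ?_⟩
      rw [e]
      group
  oppY := fun y hy h => by
    have h1 : S.n1 * y * S.n1⁻¹ ∈ S.XZ 9 := S.n1_refl.mem' hy (by norm_num)
    exact conj_eq_one_iff.1 (inter_nine S hF h1 h.1)
  fpf := fun t ht ht1 y hy h => S.fpf (k := 5) (j := 1) (by norm_num) ht ht1 hy h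
  fix := fun t ht ht1 x hx h => S.fix_J ht ht1 (a := 2) (b := 8) (by norm_num) (by norm_num) (by norm_num) hx.1 h
  Yne := S.zsys8.ne_bot 1
  Tne := Tk_ne_bot S hF 5

theorem card_NO_lt [Finite F] [Finite G] : Nat.card S.NO * Nat.card (S.XZ 5) < Nat.card (J S.XZ 1 8) := by
  have h1 := Cfsg.Agent.CpAutTwF.Card.card_J_succ S (a := 1) (b := 8) (by norm_num) (by norm_num)
  have h2 := Cfsg.Agent.CpAutTwF.Card.card_odd S 0
  have h3 := Cfsg.Agent.CpAutTwF.Card.card_odd S 2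
  norm_num only [] at h1 h2 h3
  rw [h1, h3, h2, mul_comm]
  have h4 : 0 < Nat.card F := Nat.card_pos
  refine Nat.mul_lt_mul_of_pos_left ?_ h4
  refine lt_of_le_of_ne (card_le_of_le inf_le_left) fun h => ?_
  have h5 : S.NO = J S.XZ 2 8 := Subgroup.eq_of_le_of_card_ge inf_le_left h.ge
  have h6 : S.e 1 1 0 ∈ S.NO := by rw [h5]; exact mem_J (S.mX2 1 0) le_rfl (by norm_num)
  have h7 := S.mem_centralizer_X5.1 h6.2 1
  have h8 : S.e 1 1 0 * S.o 2 1 = S.o 2 1 * S.e 1 1 0 * S.e 2 0 (1 * 1) := S.e_o1 1 1 0 1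
  rw [h8] at h7
  have h9 := mul_eq_left.1 h7
  have h10 := (S.e_eq_one h9).2
  rw [mul_one] at h10
  exact one_ne_zero h10

theorem card_Q_X4 [Finite F] [Finite G] : Nat.card S.Q * Nat.card (S.XZ 4) = Nat.card (J S.XZ 1 8) := by
  have h3 := Cfsg.Agent.CpAutTwF.Card.card_even S 2
  norm_num only [] at h3
  rw [Cfsg.Agent.H762.PL.card_Q S, Cfsg.Agent.H762.PL.card_U S, h3]
  ring

/-- **Centralisers of the elements of odd order.** -/
theorem cent_aux [Finite F] [Finite G] (hF : ∃ c : Fˣ, c ≠ 1) (hR : S.R.p = 2) {y : G} (hy1 : y ≠ 1)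
    (ho : Odd (orderOf y)) {X : Subgroup G} (h2 : IsPGroup 2 X) (hc : ∀ x ∈ X, y * x = x * y) :
    (∃ g : G, (∀ x ∈ X, g * x * g⁻¹ ∈ S.Q) ∧ Nat.card X ^ 2 ≤ Nat.card (J S.XZ 1 8)) ∨
      Nat.card X ^ 2 < Nat.card (J S.XZ 1 8) := by
  have hfact : Fact (Nat.Prime 2) := ⟨Nat.prime_two⟩
  by_cases hX : X = ⊥
  · right
    rw [hX, card_bot, one_pow]
    have h1 : J S.XZ 1 8 ≠ ⊥ := by
      intro h
      apply S.zsys8.ne_bot 1
      rw [eq_bot_iff, ← h]
      exact X_le_J le_rfl (by norm_num)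
    exact (Subgroup.one_lt_card_iff_ne_bot _).2 h1
  -- an involution in the centre of `X`
  have hXne : Nontrivial X := (Subgroup.nontrivial_iff_ne_bot X).2 hX
  obtain ⟨z, hzX, hz2, hz1, hzc⟩ : ∃ z ∈ X, z * z = 1 ∧ z ≠ 1 ∧ ∀ x ∈ X, z * x = x * z := by
    have hct : Nontrivial (center X) := h2.center_nontrivial
    have hcp : IsPGroup 2 (center X) := h2.to_subgroup _
    obtain ⟨k, hk⟩ := hcp.exists_card_eq
    have h3 : 2 ∣ Nat.card (center X) := by
      rw [hk]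
      apply dvd_pow_self
      rintro rfl
      rw [pow_zero] at hk
      exact absurd (Finite.one_lt_card_iff_nontrivial.2 hct) (by rw [hk]; exact lt_irrefl 1)
    obtain ⟨⟨⟨z, hz⟩, hzc⟩, ho⟩ := exists_prime_orderOf_dvd_card' (G := center X) 2 h3
    rw [Subgroup.orderOf_mk, Subgroup.orderOf_mk] at ho
    refine ⟨z, hz, ?_, ?_, fun x hx => ?_⟩
    · rw [← pow_two, ← ho, pow_orderOf_eq_one]
    · rintro rfl
      rw [orderOf_one] at ho
      exact absurd ho (by norm_num)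
    · exact congrArg Subtype.val (mem_center_iff.1 hzc ⟨x, hx⟩).symm
  -- conjugation
  have main : ∀ (M V R Y D T : Subgroup G) (n : G), RC M V R Y D T n → ∀ g : G,
      (∀ w : G, w * (g * z * g⁻¹) = g * z * g⁻¹ * w → w ∈ M) →
      (∀ x ∈ X, g * x * g⁻¹ ∈ R) ∧ Nat.card X ^ 2 ≤ Nat.card R * Nat.card D := by
    intro M V R Y D T n C g hM
    have hcz : ∀ x, z * x = x * z → g * x * g⁻¹ ∈ M := by
      intro x hx
      apply hM
      calc g * x * g⁻¹ * (g * z * g⁻¹) = g * (x * z) * g⁻¹ := by group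
        _ = g * (z * x) * g⁻¹ := by rw [hx]
        _ = _ := by group
    have hyM := hcz y (hc z hzX).symm
    have hy1' : g * y * g⁻¹ ≠ 1 := fun h => hy1 (conj_eq_one_iff.1 h)
    have ho' : Odd (orderOf (g * y * g⁻¹)) := by
      have e : g * y * g⁻¹ = MulAut.conj g y := rfl
      rw [e, MulEquiv.orderOf_eq]
      exact ho
    let X' : Subgroup G := X.map (MulAut.conj g).toMonoidHom
    have c1 : Nat.card X' = Nat.card X := card_map_of_injective (MulAut.conj g).injective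
    have hX'M : X' ≤ M := by
      rintro _ ⟨x, hx, rfl⟩
      exact hcz x (hzc x hx)
    have hX'c : ∀ x ∈ X', (g * y * g⁻¹) * x = x * (g * y * g⁻¹) := by
      rintro _ ⟨x, hx, rfl⟩
      change g * y * g⁻¹ * (g * x * g⁻¹) = g * x * g⁻¹ * (g * y * g⁻¹)
      calc g * y * g⁻¹ * (g * x * g⁻¹) = g * (y * x) * g⁻¹ := by group
        _ = g * (x * y) * g⁻¹ := by rw [hc x hx]
        _ = _ := by group
    have h3 := C.le_R hyM hy1' ho' hX'M (h2.map _) hX'c
    refine ⟨fun x hx => h3 ⟨x, hx, rfl⟩, ?_⟩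
    rw [← c1]
    exact C.card_sq hyM hy1' ho' h3 hX'c
  rcases classes S hF hR hz2 hz1 with ⟨u, hu, k, hk⟩ | ⟨t, ht, k, hk⟩
  · left
    have e1 : S.rot ^ (2 : ℤ) * k * z * (S.rot ^ (2 : ℤ) * k)⁻¹ = S.e 2 0 u := by
      have := S.rotk_e 2 0 0 u
      rw [← hk] at this
      rw [show (2 : ZMod 8) = 0 + ((2 : ℤ) : ZMod 8) by norm_num, ← this]
      group
    obtain ⟨h3, h4⟩ := main _ _ _ _ _ _ _ (rcPL S hF hR) (S.rot ^ (2 : ℤ) * k) (fun w hw => by
      rw [e1] at hw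
      rw [← S.centralizer_z (z := S.e 2 0 u) ⟨u, rfl⟩ (fun h => hu (S.e_eq_one h).2),
        Subgroup.mem_centralizer_singleton_iff]
      exact hw)
    exact ⟨_, h3, h4.trans (card_Q_X4 S).le⟩
  · right
    have e1 : S.rot ^ (2 : ℤ) * k * z * (S.rot ^ (2 : ℤ) * k)⁻¹ = S.o 2 t := by
      have := S.rotk_o 2 0 t
      rw [← hk] at this
      rw [show (2 : ZMod 8) = 0 + ((2 : ℤ) : ZMod 8) by norm_num, ← this]
      group
    obtain ⟨h3, h4⟩ := main _ _ _ _ _ _ _ (rcHO S hF hR) (S.rot ^ (2 : ℤ) * k) (fun w hw => by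
      rw [e1] at hw
      rw [← S.centralizer_o ht, Subgroup.mem_centralizer_singleton_iff]
      exact hw)
    exact lt_of_le_of_lt h4 (card_NO_lt S)

section final

open Cfsg.Agent.H27.AH Cfsg.Agent.H330.ClassProd
open scoped Pointwise

/-- **(A) for `²F₄(q)`** -/
theorem notA_of_full [Finite F] [Finite G] (hF : ∃ c : Fˣ, c ≠ 1) (hR : S.R.p = 2) (hS : FixBN.HasSplit 2 G) :
    NotA 2 G := by
  have hfact : Fact (Nat.Prime 2) := ⟨Nat.prime_two⟩
  obtain ⟨P, hP⟩ := exists_sylow S hF hR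
  have hUc : Nat.card (J S.XZ 1 8) = 2 ^ (Nat.card G).factorization 2 := by
    rw [← hP]
    exact P.card_eq_multiplicity
  have key : ∀ x : G, x ≠ 1 → ¬ 2 ∣ orderOf x → ∃ A : Subgroup G, A ≤ centralizer ({x} : Set G) ∧
      Nat.card A = 2 ^ cv 2 x ∧ ((∃ g : G, (∀ y ∈ A, g * y * g⁻¹ ∈ S.Q) ∧
        cv 2 x + cv 2 x ≤ (Nat.card G).factorization 2) ∨ cv 2 x + cv 2 x < (Nat.card G).factorization 2) := by
    intro x hx hxp
    obtain ⟨X, hX⟩ := Sylow.exists_subgroup_card_pow_prime (G := centralizer ({x} : Set G)) 2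
      (n := cv 2 x) (Nat.ordProj_dvd _ _)
    obtain ⟨Y, hYd⟩ : ∃ Y : Subgroup G, Y = X.map (centralizer ({x} : Set G)).subtype := ⟨_, rfl⟩
    have hY : Nat.card Y = 2 ^ cv 2 x := by
      rw [hYd, card_map_of_injective (subtype_injective _), hX]
    have hYx : Y ≤ centralizer ({x} : Set G) := by
      rw [hYd]
      rintro _ ⟨y, -, rfl⟩
      exact y.2
    have ho : Odd (orderOf x) := by rwa [← Nat.not_even_iff_odd, even_iff_two_dvd]
    refine ⟨Y, hYx, hY, ?_⟩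
    rcases cent_aux S hF hR hx ho (IsPGroup.of_card hY) (fun y hy => (mem_centralizer_singleton_iff.1 (hYx hy)).symm)
      with ⟨g, h1, h2⟩ | h2
    · left
      refine ⟨g, h1, ?_⟩
      rw [hY, hUc, ← pow_mul] at h2
      have h3 := (Nat.pow_le_pow_iff_right Nat.one_lt_two).1 h2
      omega
    · right
      rw [hY, hUc, ← pow_mul] at h2
      have h3 := (Nat.pow_lt_pow_iff_right Nat.one_lt_two).1 h2
      omega
  intro a b c ha hb hc hab h1 h2 h3
  have h4 := hab.cv_add hS h1 h2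
  obtain ⟨A, hA, hAc, hA'⟩ := key a ha h1
  obtain ⟨B, hB, hBc, hB'⟩ := key b hb h2
  rcases hA' with ⟨g, hg, ha2⟩ | ha2
  · rcases hB' with ⟨k, hk, hb2⟩ | hb2
    · -- both in `Q`
      have h5 := (hab.conj g k).dvd_card hS (H := S.Q) (A := A.map (MulAut.conj g).toMonoidHom)
        (B := B.map (MulAut.conj k).toMonoidHom)
        (by rwa [orderOf_of_isConj (isConj_iff.2 ⟨g, rfl⟩)]) (by rwa [orderOf_of_isConj (isConj_iff.2 ⟨k, rfl⟩)])
        (by rintro _ ⟨y, hy, rfl⟩; exact hg y hy) (by rintro _ ⟨y, hy, rfl⟩; exact hk y hy)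
        (by
          rintro _ ⟨y, hy, rfl⟩
          have h5 := mem_centralizer_singleton_iff.1 (hA hy)
          change g * y * g⁻¹ ∈ _
          rw [mem_centralizer_singleton_iff]
          calc g * y * g⁻¹ * (g * a * g⁻¹) = g * (y * a) * g⁻¹ := by group
            _ = g * (a * y) * g⁻¹ := by rw [h5]
            _ = _ := by group)
        (by
          rintro _ ⟨y, hy, rfl⟩
          have h5 := mem_centralizer_singleton_iff.1 (hB hy)
          change k * y * k⁻¹ ∈ _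
          rw [mem_centralizer_singleton_iff]
          calc k * y * k⁻¹ * (k * b * k⁻¹) = k * (y * b) * k⁻¹ := by group
            _ = k * (b * y) * k⁻¹ := by rw [h5]
            _ = _ := by group)
        (by rw [card_map_of_injective (MulAut.conj g).injective, hAc, cv_conj])
        (by rw [card_map_of_injective (MulAut.conj k).injective, hBc, cv_conj])
      rw [← hUc, ← card_Q_X4 S] at h5
      have h6 : 0 < Nat.card S.Q := Nat.card_pos
      have h7 := Nat.le_of_dvd h6 h5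
      have h8 : 1 < Nat.card (S.XZ 4) := (Subgroup.one_lt_card_iff_ne_bot _).2 (S.zsys8.ne_bot 4)
      have h9 : Nat.card S.Q * 1 < Nat.card S.Q * Nat.card (S.XZ 4) := Nat.mul_lt_mul_of_pos_left h8 h6
      rw [mul_one] at h9
      exact absurd h7 (not_le_of_gt h9)
    · omega
  · rcases hB' with ⟨k, hk, hb2⟩ | hb2 <;> omega

open Cfsg.Lie in
theorem notA_twF4 {K : Type u} [Field K] [Fintype K] {m : ℕ} (hm : 1 ≤ m) (hK : Fintype.card K = 2 ^ (2 * m + 1))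
    (hS : FixBN.HasSplit 2 ↥(twistedF4 K (2 ^ m))) : NotA 2 ↥(twistedF4 K (2 ^ m)) := by
  obtain ⟨φ, hφ⟩ := Cfsg.Agent.ChevalleyStructure.TwF4.TwistedFix.exists_rln hK
  have := Cfsg.Agent.ChevalleyStructure.TwF4.Twisted.charP_two hK
  have hfin : Finite ↥(twistedF4 K (2 ^ m)) := inferInstance
  have hFc : Nat.card K = 2 ^ (2 * m + 1) := by rw [Nat.card_eq_fintype_card, hK]
  have h8 : 8 ≤ Nat.card K := by
    rw [hFc]
    calc 8 = 2 ^ 3 := by norm_num
      _ ≤ _ := Nat.pow_le_pow_right (by norm_num) (by omega)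
  have hF : ∃ c : Kˣ, c ≠ 1 := by
    have h1 : 1 < Nat.card Kˣ := by
      rw [Nat.card_units]
      omega
    have h2 : Nontrivial Kˣ := Finite.one_lt_card_iff_nontrivial.1 h1
    exact exists_ne 1
  exact notA_of_full (Cfsg.Agent.KFacts.TwF4.Inst.full hK hφ) hF rfl hS

/-- **(A) for the groups `²F₄(q)`, `q > 2`.** -/
theorem notA_iso2F4 {X : Type*} [Group X] (h : Lie.Iso2F4 X) : NotA 2 X := by
  have hS := H979.LieSplit.hasSplit_of_iso2F4 h
  obtain ⟨K, i1, i2, m, hm, hK, ⟨e⟩⟩ := h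
  exact NotA.of_equiv e (notA_twF4 hm hK (FixBN.Transport.hasSplit_congr e hS))

end final

end Cfsg.Agent.H743.AH.TwF
end

-- part: H743/AH/TwFC
section
/-!
# S2451, (C) for the groups `²F₄(q)`, `q > 2`: the common displacements (helper743)

* `dis_le` : `Dis ⊆ {1}`.
-/

set_option autoImplicit false
set_option linter.unusedSectionVars false

open scoped Pointwise

namespace Cfsg.Agent.H743.AH.TwF

open Cfsg.Agent.SplitTwo Cfsg.Agent.SplitTwo.ZS Cfsg.Agent.TitsThree.RankTwoZ Cfsg.Agent.KFacts.TwF4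
open Cfsg.Agent.KFacts.TwF4.Full Cfsg.Agent.KFacts.TwF4.SylU Cfsg.Agent.KFacts.TwF4.Inv Cfsg.Agent.KFacts.TwF4.Arc
open Cfsg.Agent.SplitTwo.RootSysZ Subgroup

universe u

section Full

variable {F : Type*} [Field F] {σ : F →+* F} {G : Type u} [Group G] (S : Full σ G)

/-- `n` acts on the indices of the root groups as an element of the dihedral group -/
def DihS : Subgroup G where
  carrier := {w | ∃ c : ℤ, Maps S.R.X w (fun k => ((2 * c : ℤ) : ZMod (2 * 8)) + k) ∨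
    Maps S.R.X w (fun k => ((2 * c : ℤ) : ZMod (2 * 8)) - k)}
  one_mem' := ⟨0, Or.inl (Maps.one.congr fun k => by simp)⟩
  mul_mem' := by
    rintro a b ⟨c, hc⟩ ⟨d, hd⟩
    rcases hc with hc | hc <;> rcases hd with hd | hd
    · exact ⟨c + d, Or.inl ((hc.mul hd).congr fun k => by simp only [Function.comp]; push_cast; ring)⟩
    · exact ⟨c + d, Or.inr ((hc.mul hd).congr fun k => by simp only [Function.comp]; push_cast; ring)⟩
    · exact ⟨c - d, Or.inr ((hc.mul hd).congr fun k => by simp only [Function.comp]; push_cast; ring)⟩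
    · exact ⟨c - d, Or.inl ((hc.mul hd).congr fun k => by simp only [Function.comp]; push_cast; ring)⟩
  inv_mem' := by
    rintro a ⟨c, hc | hc⟩
    · exact ⟨-c, Or.inl (hc.inv fun k => by push_cast; ring)⟩
    · exact ⟨c, Or.inr (hc.inv fun k => by push_cast; ring)⟩

theorem n1_dih : S.n1 ∈ DihS S := ⟨5, Or.inr (S.n1_maps.congr fun k => by norm_num)⟩

theorem n2_dih : S.n2 ∈ DihS S := ⟨4, Or.inr (S.n2_maps.congr fun k => by norm_num)⟩

theorem T_dih : S.T ≤ DihS S := fun t ht => ⟨0, Or.inl (Maps.congr ht fun k => by simp)⟩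

/-- the longest element inverts the torus -/
theorem four_h (c d : Fˣ) : (S.n1 * S.n2) ^ 4 * S.h c d * ((S.n1 * S.n2) ^ 4)⁻¹ = (S.h c d)⁻¹ := by
  have key : ∀ c d : Fˣ, (S.n1 * S.n2) * S.h c d * (S.n1 * S.n2)⁻¹ = S.h (Units.map (σ : F →* F) c / d) c := by
    intro c d
    have e : (S.n1 * S.n2) * S.h c d * (S.n1 * S.n2)⁻¹ = S.n1 * (S.n2 * S.h c d * S.n2⁻¹) * S.n1⁻¹ := by group
    rw [e, S.n2_h, S.n1_h, inv_inv, inv_div]
  have e : ∀ r : G, r ^ 4 * S.h c d * (r ^ 4)⁻¹ = r * (r * (r * (r * S.h c d * r⁻¹) * r⁻¹) * r⁻¹) * r⁻¹ := by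
    intro r
    have e4 : r ^ 4 = r * r * r * r := by simp only [pow_succ, pow_zero, one_mul]
    rw [e4]
    simp only [mul_inv_rev, mul_assoc]
  have h1 : ∀ x : Fˣ, Units.map (σ : F →* F) (Units.map (σ : F →* F) x) = x ^ 2 := fun x => _root_.Cfsg.Agent.KFacts.TwF4.map_map σ S.sq x
  have a2 : Units.map (σ : F →* F) (Units.map (σ : F →* F) c / d) / c = c / Units.map (σ : F →* F) d := by
    rw [map_div, h1, div_eq_div_iff_mul_eq_mul, pow_two, div_mul_cancel]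
  have a3 : Units.map (σ : F →* F) (c / Units.map (σ : F →* F) d) / (Units.map (σ : F →* F) c / d) = d⁻¹ := by
    rw [map_div, h1, div_div_div_cancel_left, pow_two, div_mul_cancel_left]
  have a4 : Units.map (σ : F →* F) d⁻¹ / (c / Units.map (σ : F →* F) d) = c⁻¹ := by
    rw [map_inv, div_div_eq_mul_div, inv_mul_cancel, one_div]
  rw [e, key, key, key, key, a2, a3, a4, S.h_inv]

variable [Finite F] [Finite G] (hF : ∃ c : Fˣ, c ≠ 1)

include hF in
/-- an element of `DihS` centralising `T` lies in `T` -/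
theorem mem_T_of_comm {n : G} (hn : n ∈ DihS S) (hc : ∀ t ∈ S.T, n * t * n⁻¹ = t) : n ∈ S.T := by
  have hd : ∀ (j k : ℤ), (∀ x ∈ S.XZ j, n * x * n⁻¹ ∈ S.XZ k) → (8 : ℤ) ∣ k - j := by
    intro j k h
    by_contra hkj
    obtain ⟨t, ht, ht1⟩ := AutTau.exists_Tk S hF j
    obtain ⟨x, hx, hx1⟩ := S.zsys8.exists_ne j
    have h1 := S.fpf hkj ht ht1 (h x hx) (by
      have h2 := S.Tk_comm ht hx
      have h3 := hc t ht.1
      calc t * (n * x * n⁻¹) * t⁻¹ = (n * t * n⁻¹) * (n * x * n⁻¹) * (n * t * n⁻¹)⁻¹ := by rw [h3]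
        _ = n * (t * x) * t⁻¹ * n⁻¹ := by group
        _ = n * (x * t) * t⁻¹ * n⁻¹ := by rw [h2]
        _ = _ := by group)
    exact hx1 (conj_eq_one_iff.1 h1)
  obtain ⟨c, h | h⟩ := hn
  · have h1 : (8 : ℤ) ∣ 2 * c - 0 := by
      have h2 := hd 0 (2 * c + 0) fun x hx => by
        have h3 := (h ((0 : ℤ) : ZMod (2 * 8)) x).2 hx
        show _ ∈ S.R.X _
        push_cast at h3 ⊢
        exact h3
      rwa [add_zero] at h2
    rw [sub_zero] at h1
    obtain ⟨k, hk⟩ := h1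
    rcases Int.even_or_odd' k with ⟨l, hl | hl⟩
    · -- translation by a multiple of 16
      show Maps S.R.X n id
      refine h.congr fun j => ?_
      have h2 : ((2 * c : ℤ) : ZMod (2 * 8)) = 0 := by
        rw [ZMod.intCast_zmod_eq_zero_iff_dvd]
        exact ⟨l, by push_cast; omega⟩
      rw [h2, zero_add, id]
    · -- `n` is the longest element modulo `T`
      exfalso
      have h2 : ((2 * c : ℤ) : ZMod (2 * 8)) = 8 := by
        have h3 : (2 * c : ℤ) = 8 + 16 * l := by omega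
        rw [h3]
        push_cast
        have h4 : (16 : ZMod (2 * 8)) = 0 := by decide
        rw [h4, zero_mul, add_zero]
      have h5 : Maps S.R.X ((S.n1 * S.n2) ^ 4) (fun k => (8 : ZMod (2 * 8)) + k) := by
        have h6 : Maps S.R.X (S.n1 * S.n2) (fun k => 2 + k) := (S.n1_maps.mul S.n2_maps).congr fun k => by
          simp only [Function.comp]
          ring
        have e : (S.n1 * S.n2) ^ 4 = S.n1 * S.n2 * (S.n1 * S.n2) * (S.n1 * S.n2) * (S.n1 * S.n2) := by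
          simp only [pow_succ, pow_zero, one_mul]
        rw [e]
        exact (((h6.mul h6).mul h6).mul h6).congr fun k => by
          simp only [Function.comp]
          ring
      have h6 : n * ((S.n1 * S.n2) ^ 4)⁻¹ ∈ S.T := by
        show Maps S.R.X _ id
        have h7 := h5.inv (g := fun k => k - 8) fun k => by ring
        exact (h.mul h7).congr fun k => by
          simp only [Function.comp, id]
          rw [h2]
          ring
      obtain ⟨u, hu⟩ := hF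
      have ht : S.h u 1 ∈ S.T := S.mem_T.2 ⟨u, 1, rfl⟩
      have h7 := hc _ ht
      have h8 := four_h S u 1
      have h9 := S.T_comm h6 (inv_mem ht)
      have h10 : S.h u 1 = (S.h u 1)⁻¹ := by
        calc S.h u 1 = n * S.h u 1 * n⁻¹ := h7.symm
          _ = (n * ((S.n1 * S.n2) ^ 4)⁻¹) * ((S.n1 * S.n2) ^ 4 * S.h u 1 * ((S.n1 * S.n2) ^ 4)⁻¹) *
              (n * ((S.n1 * S.n2) ^ 4)⁻¹)⁻¹ := by group
          _ = (n * ((S.n1 * S.n2) ^ 4)⁻¹) * (S.h u 1)⁻¹ * (n * ((S.n1 * S.n2) ^ 4)⁻¹)⁻¹ := by rw [h8]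
          _ = _ := by rw [h9, mul_inv_cancel_right]
      rw [S.h_inv] at h10
      have h11 := (S.h_inj _ _ _ _ h10).1
      exact hu (unit_sq S (mul_eq_one_iff_eq_inv.2 h11))
  · exfalso
    have h1 : (8 : ℤ) ∣ 2 * c - 0 := by
      have h2 := hd 0 (2 * c - 0) fun x hx => by
        have h3 := (h ((0 : ℤ) : ZMod (2 * 8)) x).2 hx
        show _ ∈ S.R.X _
        push_cast at h3 ⊢
        exact h3
      rwa [sub_zero] at h2
    have h2 : (8 : ℤ) ∣ 2 * c - 1 - 1 := hd 1 (2 * c - 1) fun x hx => by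
      have h3 := (h ((1 : ℤ) : ZMod (2 * 8)) x).2 hx
      show _ ∈ S.R.X _
      push_cast at h3 ⊢
      exact h3
    omega

end Full

section BN

open Cfsg Cfsg.Agent.Tits.Core Cfsg.Agent.Tits.Core.Bldg Cfsg.Agent.Tits.OfBN Cfsg.Agent.FixBN
  Cfsg.Agent.Tits.OppRes Cfsg.Agent.H197.Cls Cfsg.Agent.LieExceptional.BNPairCore

variable {F : Type*} [Field F] {σ : F →+* F} {G : Type u} [Group G] (S : Full σ G) [Finite F] [Finite G]
  (hF : ∃ c : Fˣ, c ≠ 1) (hR : S.R.p = 2) {P : Cfsg.BNPair G} (Sp : Split P 2 (J S.XZ 1 8))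
  (hPS : P.S = {S.n1, S.n2}) (hTN : S.T ≤ P.N)

include hF hR Sp in
theorem B_form {g : G} (hg : g ∈ P.B) : ∃ b ∈ J S.XZ 1 8, ∃ t ∈ S.T, g = b * t := by
  rw [← Sp.normalizer_eq] at hg
  exact norm_U S hF hR fun x => mem_normalizer_iff.1 hg x

include Sp in
theorem T_le_B : S.T ≤ P.B := by
  intro t ht
  rw [← Sp.normalizer_eq, mem_normalizer_iff]
  intro x
  refine ⟨fun h => S.T_conj_J ht h, fun h => ?_⟩
  have h1 := S.T_conj_J (inv_mem ht) h
  have e : t⁻¹ * (t * x * t⁻¹) * t⁻¹⁻¹ = x := by group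
  rwa [e] at h1

include hF hR Sp hTN in
theorem BN_le : P.B ⊓ P.N ≤ S.T := by
  intro g hg
  obtain ⟨b, hb, t, ht, e⟩ := B_form S hF hR Sp hg.1
  have hbB : b ∈ P.B := Sp.le hb
  have hbN : b ∈ P.N := by
    have : b = g * t⁻¹ := by rw [e]; group
    rw [this]
    exact mul_mem hg.2 (inv_mem (hTN ht))
  obtain ⟨m, hm, h1⟩ := Sp.tor
  have h2 := h1 b hbB hbN
  obtain ⟨k, hk⟩ := Sp.isP ⟨b, hb⟩
  have h3 : b ^ 2 ^ k = 1 := congrArg Subtype.val hk
  have h4 : orderOf b ∣ 1 := by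
    have h5 : Nat.gcd m (2 ^ k) = 1 := by
      apply Nat.Coprime.pow_right
      rw [Nat.coprime_comm, Nat.Prime.coprime_iff_not_dvd Nat.prime_two]
      exact hm
    rw [← h5]
    exact Nat.dvd_gcd (orderOf_dvd_of_pow_eq_one h2) (orderOf_dvd_of_pow_eq_one h3)
  have h5 : b = 1 := orderOf_eq_one_iff.1 (Nat.dvd_one.1 h4)
  rw [e, h5, one_mul]
  exact ht

include hF hR Sp hPS hTN in
theorem N_le : P.N ≤ DihS S := by
  rw [← P.closure_sup, sup_le_iff, closure_le]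
  constructor
  · rw [hPS]
    rintro x (rfl | rfl)
    · exact n1_dih S
    · exact n2_dih S
  · exact (BN_le S hF hR Sp hTN).trans (T_dih S)

include hF hR Sp in
theorem B_comm : ∀ x ∈ P.B, ∀ y ∈ P.B, x * y * x⁻¹ * y⁻¹ ∈ J S.XZ 1 8 := by
  intro x hx y hy
  obtain ⟨b, hb, t, ht, rfl⟩ := B_form S hF hR Sp hx
  obtain ⟨b', hb', t', ht', rfl⟩ := B_form S hF hR Sp hy
  have h1 := S.T_comm ht ht'
  have e : b * t * (b' * t') * (b * t)⁻¹ * (b' * t')⁻¹ = b * (t * b' * t⁻¹) * (t' * b⁻¹ * t'⁻¹) * b'⁻¹ := by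
    calc b * t * (b' * t') * (b * t)⁻¹ * (b' * t')⁻¹ = b * (t * b' * t⁻¹) * (t * t') * t⁻¹ * b⁻¹ * t'⁻¹ * b'⁻¹ := by
          group
      _ = b * (t * b' * t⁻¹) * (t' * t) * t⁻¹ * b⁻¹ * t'⁻¹ * b'⁻¹ := by rw [h1]
      _ = _ := by group
  rw [e]
  exact mul_mem (mul_mem (mul_mem hb (S.T_conj_J ht hb')) (S.T_conj_J ht' (inv_mem hb))) (inv_mem hb')

variable [hN : ((P.B ⊓ P.N).subgroupOf P.N).Normal]
  {I : Type*} [Fintype I] [DecidableEq I] {M : CoxeterMatrix I} (e : I ≃ P.S) (cs : CoxeterSystem M (WP P)) [Fc : Cox cs]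
  (hcs : ∀ i, cs.simple i = QuotientGroup.mk (⟨(e i : G), P.subset (e i).2⟩ : P.N))

include hF hR Sp hPS hTN in
/-- **The common displacements.** -/
theorem dis_eq_one {a b : G} (hab : Good 2 a b) {w : WP P} (hw : w ∈ Dis (bldg P e cs hcs) a b) : w = 1 := by
  have hfact : Fact (Nat.Prime 2) := ⟨Nat.prime_two⟩
  obtain ⟨n, rfl⟩ := QuotientGroup.mk_surjective w
  have h1 : ∀ t ∈ S.T, (n : G)⁻¹ * t * n = t := by
    intro t ht
    have h2 := BNTor.comm_of_mem_dis e cs hcs Sp (B_comm S hF hR Sp) hab hw (T_le_B S Sp ht) (hTN ht)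
    have h3 : (n : G)⁻¹ * t * n ∈ S.T := by
      apply BN_le S hF hR Sp hTN
      refine mem_inf.2 ⟨?_, P.N.mul_mem (P.N.mul_mem (P.N.inv_mem n.2) (hTN ht)) n.2⟩
      have h4 := P.conj_mem (n : G)⁻¹ (inv_mem n.2) t ⟨T_le_B S Sp ht, hTN ht⟩
      rwa [inv_inv] at h4
    exact mul_inv_eq_one.1 (S.U_inf_T (mul_mem h3 (inv_mem ht)) h2)
  have h2 : (n : G) ∈ S.T := by
    refine mem_T_of_comm S hF (N_le S hF hR Sp hPS hTN n.2) fun t ht => ?_
    have h3 := h1 t ht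
    calc (n : G) * t * (n : G)⁻¹ = n * ((n : G)⁻¹ * t * n) * (n : G)⁻¹ := by rw [h3]
      _ = t := by group
  rw [QuotientGroup.eq_one_iff, mem_subgroupOf]
  exact ⟨T_le_B S Sp h2, n.2⟩

omit Fc in
include hF hR Sp hTN hPS in
/-- the order of `n₁ n₂` modulo `B ∩ N` -/
theorem orderOf_n : orderOf ((QuotientGroup.mk (⟨S.n1, P.subset (by rw [hPS]; exact Set.mem_insert _ _)⟩ : P.N) : WP P) *
    QuotientGroup.mk (⟨S.n2, P.subset (by rw [hPS]; exact Set.mem_insert_of_mem _ rfl)⟩ : P.N)) = 8 := by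
  have hfact : Fact (Nat.Prime 2) := ⟨Nat.prime_two⟩
  have hN1 : S.n1 ∈ P.N := P.subset (by rw [hPS]; exact Set.mem_insert _ _)
  have hN2 : S.n2 ∈ P.N := P.subset (by rw [hPS]; exact Set.mem_insert_of_mem _ rfl)
  have h2 : Maps S.R.X (S.n1 * S.n2) (fun k => 2 + k) := (S.n1_maps.mul S.n2_maps).congr fun k => by
    simp only [Function.comp]
    ring
  have hp : ∀ l : ℕ, Maps S.R.X ((S.n1 * S.n2) ^ l) (fun k => (2 * l : ℕ) + k) := by
    intro l
    induction l with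
    | zero => rw [pow_zero]; exact Maps.one.congr fun k => by simp
    | succ l ih =>
      rw [pow_succ]
      exact (ih.mul h2).congr fun k => by
        simp only [Function.comp]
        push_cast
        ring
  have hmk : ∀ l : ℕ, ((QuotientGroup.mk (⟨S.n1, hN1⟩ : P.N) : WP P) * QuotientGroup.mk (⟨S.n2, hN2⟩ : P.N)) ^ l = 1 ↔
      (S.n1 * S.n2) ^ l ∈ P.B := by
    intro l
    have e : ((QuotientGroup.mk (⟨S.n1, hN1⟩ : P.N) : WP P) * QuotientGroup.mk (⟨S.n2, hN2⟩ : P.N)) ^ l =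
        QuotientGroup.mk ((⟨S.n1, hN1⟩ * ⟨S.n2, hN2⟩ : P.N) ^ l) := rfl
    rw [e, QuotientGroup.eq_one_iff, mem_subgroupOf, mem_inf]
    exact ⟨fun h => h.1, fun h => ⟨h, SetLike.coe_mem _⟩⟩
  have h8 := orderOf_eq_prime_pow (p := 2) (n := 2) (x := (QuotientGroup.mk (⟨S.n1, hN1⟩ : P.N) : WP P) *
    QuotientGroup.mk (⟨S.n2, hN2⟩ : P.N)) (by
      rw [hmk]
      intro h
      have h3 := hp 4
      -- `X_1 → X_9`
      rw [← Sp.normalizer_eq] at h
      obtain ⟨x, hx, hx1⟩ := S.zsys8.exists_ne 1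
      have h4 := (mem_normalizer_iff.1 h x).1 (mem_J hx le_rfl (by norm_num))
      have h5 : (S.n1 * S.n2) ^ 4 * x * ((S.n1 * S.n2) ^ 4)⁻¹ ∈ S.XZ 9 := by
        have h6 := (h3 ((1 : ℤ) : ZMod (2 * 8)) x).2 hx
        show _ ∈ S.R.X _
        have e : ((2 * 4 : ℕ) : ZMod (2 * 8)) + ((1 : ℤ) : ZMod (2 * 8)) = ((9 : ℤ) : ZMod (2 * 8)) := by
          push_cast; ring
        dsimp only at h6
        rw [e] at h6
        exact h6
      exact hx1 (conj_eq_one_iff.1 (inter_nine S hF h5 h4))) (by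
      rw [hmk]
      apply T_le_B S Sp
      show Maps S.R.X _ id
      refine (hp 8).congr fun k => ?_
      have e : ((2 * 8 : ℕ) : ZMod (2 * 8)) = 0 := by decide
      rw [e, zero_add, id])
  rw [h8]
  norm_num

/-- `n₁ ≠ n₂` -/
theorem n1_ne_n2 : S.n1 ≠ S.n2 := by
  intro h
  obtain ⟨y, hy, hy1⟩ := S.zsys8.exists_ne 1
  have h1 := S.n1_refl.mem' (k := 9) hy (by norm_num)
  have h2 := S.n2_refl.mem' (k := 7) hy (by norm_num)
  rw [← h] at h2
  have h3 := S.X_inf_near (i := 7) (j := 9) (by norm_num) (by norm_num) h2 h1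
  exact hy1 (conj_eq_one_iff.1 h3)

end BN

section Final

open Cfsg Cfsg.Agent.Tits.Core Cfsg.Agent.Tits.Core.Bldg Cfsg.Agent.Tits.OfBN Cfsg.Agent.FixBN
  Cfsg.Agent.Tits.OppRes Cfsg.Agent.H197.Cls Cfsg.Agent.LieExceptional.BNPairCore Cfsg.Lie

/-- **The building of `²F₄(q)`, `q > 2`, and the common displacements.** -/
theorem exists_dis {K : Type u} [Field K] [Fintype K] {m : ℕ} (hm : 1 ≤ m) (hK : Fintype.card K = 2 ^ (2 * m + 1)) :
    ∃ (M : CoxeterMatrix (Fin 2)) (W : Type u) (_ : Group W) (_ : Finite W) (cs : CoxeterSystem M W)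
      (C : Type u) (_ : Finite C) (_ : Nonempty C) (_ : MulAction ↥(twistedF4 K (2 ^ m)) C) (Δ : Bldg cs C)
      (_ : _root_.Cfsg.Agent.FixBN.Sys Δ ↥(twistedF4 K (2 ^ m)) 2), M 0 1 = 8 ∧ Δ.Thick ∧
      (∀ g : ↥(twistedF4 K (2 ^ m)), (∀ c : C, g • c = c) → g = 1) ∧
      ∀ a b : ↥(twistedF4 K (2 ^ m)), Good 2 a b → ∀ w ∈ Dis Δ a b, w = 1 := by
  have hfact : Fact (Nat.Prime 2) := ⟨Nat.prime_two⟩
  have := Cfsg.Agent.ChevalleyStructure.TwF4.Twisted.charP_two hK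
  have hfin : Finite ↥(twistedF4 K (2 ^ m)) := inferInstance
  have hFc : Nat.card K = 2 ^ (2 * m + 1) := by rw [Nat.card_eq_fintype_card, hK]
  have h8 : 8 ≤ Nat.card K := by
    rw [hFc]
    calc 8 = 2 ^ 3 := by norm_num
      _ ≤ _ := Nat.pow_le_pow_right (by norm_num) (by omega)
  have hF : ∃ c : Kˣ, c ≠ 1 := by
    have h1 : 1 < Nat.card Kˣ := by
      rw [Nat.card_units]
      omega
    have h2 : Nontrivial Kˣ := Finite.one_lt_card_iff_nontrivial.1 h1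
    exact exists_ne 1
  obtain ⟨φ, S, P, hR, Sp, hPS, hTN⟩ := exists_bn hK
  have hN := normal_subgroupOf P
  obtain ⟨M', cs', hcs'⟩ := S0320.result P
  have h12 : S.n1 ≠ S.n2 := n1_ne_n2 S
  have m1 : S.n1 ∈ P.S := by rw [hPS]; exact Set.mem_insert _ _
  have m2 : S.n2 ∈ P.S := by rw [hPS]; exact Set.mem_insert_of_mem _ rfl
  let f : Fin 2 → P.S := ![⟨S.n1, m1⟩, ⟨S.n2, m2⟩]
  have hf : Function.Bijective f := by
    constructor
    · intro i j hij
      fin_cases i <;> fin_cases j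
      · rfl
      · exact absurd (congrArg Subtype.val hij) h12
      · exact absurd (congrArg Subtype.val hij).symm h12
      · rfl
    · rintro ⟨x, hx⟩
      have h1 := hx
      rw [hPS] at h1
      rcases h1 with rfl | rfl
      · exact ⟨0, rfl⟩
      · exact ⟨1, rfl⟩
  let e : Fin 2 ≃ P.S := _root_.Equiv.ofBijective f hf
  have hcs : ∀ i, (cs'.reindex e.symm).simple i = QuotientGroup.mk (⟨(e i : ↥(twistedF4 K (2 ^ m))),
      P.subset (e i).2⟩ : P.N) := fun i => by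
    rw [CoxeterSystem.reindex_simple, hcs']
    rfl
  have hW : Finite (WP P) := inferInstance
  have Fc : Cox (cs'.reindex e.symm) := inferInstance
  refine ⟨M'.reindex e.symm, WP P, inferInstance, hW, cs'.reindex e.symm, ↥(twistedF4 K (2 ^ m)) ⧸ P.B, inferInstance,
    ⟨QuotientGroup.mk 1⟩, inferInstance, bldg P e (cs'.reindex e.symm) hcs, FixBN.OfBN.sys e (cs'.reindex e.symm) hcs Sp,
    ?_, thick P e (cs'.reindex e.symm) hcs, fun g hg => ?_, fun a b hab w hw => ?_⟩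
  · rw [← Cfsg.Agent.Tits.Generic.orderOf_eq (cs'.reindex e.symm) 0 1, hcs, hcs]
    exact orderOf_n S hF hR Sp hPS hTN
  · have h1 : g ∈ P.B.normalCore := by
      intro k
      have h2 := hg (QuotientGroup.mk k⁻¹)
      rw [FixBN.OfBN.smul_mk_eq, inv_inv] at h2
      exact h2
    rw [Sp.core] at h1
    exact Subgroup.mem_bot.1 h1
  · exact dis_eq_one S hF hR Sp hPS hTN e (cs'.reindex e.symm) hcs hab hw

end Final

end Cfsg.Agent.H743.AH.TwF
end
end
end
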