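import Cfsg.Agent.H743.AH.SixB
import Cfsg.Agent.Lib.Refl
import Cfsg.Agent.H568.OwnCharTw
import Cfsg.Agent.S1070
import Cfsg.Agent.FastGrp
import Cfsg.Agent.Prune
set_option linter.all false

section
prune_inst 0x7ffffffbbffdfddfffff7ffffffbdffe39d3dfffe6fffd4bbfe8bfefbbff338c2feffbbf8df090ff1fe3e29c90ba7853fb7eeeffeb6bde7ffffd5ff45ffbee5ff7ffbfad71ffbcb41ffe6fff9bf17f8e7f3fffffffffffffffffffffffffffbeffffffffffff

-- part: H743/AH/SixC
section
prune_inst 0x400002200000000000000001c0282000000000b04003401040000461c000040060040200c01401204000800004000100000001000000000000040000000000000000000a000000006002003180c00000000000000000000000000041000000000000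
set_option linter.all false
open scoped Cfsg.Agent.FastGrp

/-!
# Products of two `p`-regular classes, `²E₆(q)`: minimal parabolic of type `{1}` (helper743)

`of_line` : if `a ∈ LJ {1}` has minimal parabolic `PJ {1}` then either `VJ {1} ⊓ C(a)` does not map onto `X (sr 2)`, or the
same holds for a conjugate with minimal parabolic `PJ {0}`.
-/

set_option autoImplicit false
set_option linter.unusedSectionVars false

namespace Cfsg.Agent.H743.AH.SixC

open CoxeterSystem Cfsg.Agent.ChevalleyStructure.CoxeterGeom Cfsg.Agent.Tits.Roots Cfsg.Agent.Tits.Core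
  Cfsg.Agent.Tits.RootComb Cfsg.Agent.Tits.Exchange Cfsg.Agent.Nodes.Reps Cfsg.Agent.Nodes.BNOf
  Cfsg.Agent.Nodes.StabComb Cfsg.Agent.Nodes.Bruhat Cfsg.Agent.Nodes.OppDec Cfsg.Agent.Nodes.LeviDec
  Cfsg.Agent.Nodes.Coroot Cfsg.Agent.KFacts.RgdSL Cfsg.Agent.KFacts.RgdTI Cfsg.Agent.KFacts.RgdOdd
  Cfsg.Agent.KFacts.RgdEx
  Cfsg.Agent.Nodes.RGDTwE6 Cfsg.Agent.KFacts.TwESix.Comb Cfsg.Agent.KFacts.TwESix.CombRho
  Cfsg.Agent.KFacts.TwESix.Btw Cfsg.Agent.H743.AH.SixFacts Cfsg.Agent.H743.AH.RgdPos Cfsg.Agent.H743.AH.SixA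
  Cfsg.Agent.H743.AH.SixB
open scoped commutatorElement

/-! ### Tables -/

/-- the positive roots other than `α₁` -/
def M0 : List (Fin 4 → ℤ) := prts.filter (· ≠ sr 1)
def M1 : List (Fin 4 → ℤ) := M0.filter (· ≠ e4)
def M2 : List (Fin 4 → ℤ) := M1.filter (· ≠ e3)
/-- `α₁ + 2 α₂` -/
def l1 : Fin 4 → ℤ := ![0, 1, 2, 0]
def M3 : List (Fin 4 → ℤ) := M2.filter (· ≠ l1)
/-- the radical in the residue of type `{1, 2}` -/
def E : List (Fin 4 → ℤ) := [e4, e3, l1]
/-- the positive roots other than `α₀` -/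
def N0 : List (Fin 4 → ℤ) := prts.filter (· ≠ sr 0)
def N1 : List (Fin 4 → ℤ) := N0.filter (· ≠ e4)
/-- the positive roots other than `α₂` -/
def N2 : List (Fin 4 → ℤ) := prts.filter (· ≠ e4)

theorem M0_sub : ∀ x ∈ M0, x ∈ prts := by decide +kernel
theorem M1_sub : ∀ x ∈ M1, x ∈ prts := by decide +kernel
theorem M2_sub : ∀ x ∈ M2, x ∈ prts := by decide +kernel
theorem M3_sub : ∀ x ∈ M3, x ∈ prts := by decide +kernel
theorem E_sub : ∀ x ∈ E, x ∈ prts := by decide +kernel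
theorem N0_sub : ∀ x ∈ N0, x ∈ prts := by decide +kernel
theorem N1_sub : ∀ x ∈ N1, x ∈ prts := by decide +kernel
theorem N2_sub : ∀ x ∈ N2, x ∈ prts := by decide +kernel

private theorem cP : ∀ x ∈ prts, ∀ y ∈ prts, ∀ z ∈ rts, bt x y z → z ∈ prts := by
  intro x hx y hy z hz ⟨h1, h2, h3⟩
  refine mem_prts z hz fun i => ?_
  have hx' := prts_sub x hx
  have hy' := prts_sub y hy
  have hD : 0 < dd x y := by
    rcases dd_pos x hx'.1 y hy'.1 with rfl | rfl | h
    · exact absurd h1 (by unfold ca; rw [sub_self]; exact lt_irrefl _)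
    · refine absurd h1 (Eq.not_lt ?_)
      unfold ca bf
      simp only [Pi.neg_apply]
      ring
    · exact h
  have h4 : dd x y * z i = ca x y z * x i + ca y x z * y i := congrFun h3 i
  exact (mul_nonneg_iff_of_pos_left hD).1
    (h4 ▸ add_nonneg (mul_nonneg h1.le (hx'.2 i)) (mul_nonneg h2.le (hy'.2 i)))

private theorem cF {L : List (Fin 4 → ℤ)} {e : Fin 4 → ℤ} (hc : ∀ x ∈ L, ∀ y ∈ L, ∀ z ∈ rts, bt x y z → z ∈ L)
    (hn : ∀ x ∈ L.filter (· ≠ e), ∀ y ∈ L.filter (· ≠ e), ¬ bt x y e) :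
    ∀ x ∈ L.filter (· ≠ e), ∀ y ∈ L.filter (· ≠ e), ∀ z ∈ rts, bt x y z → z ∈ L.filter (· ≠ e) :=
  fun x hx y hy z hz h => List.mem_filter.2 ⟨hc x (List.mem_filter.1 hx).1 y (List.mem_filter.1 hy).1 z hz h,
    decide_eq_true fun h' => hn x hx y hy (h' ▸ h)⟩

theorem cM0 : ∀ x ∈ M0, ∀ y ∈ M0, ∀ z ∈ rts, bt x y z → z ∈ M0 := cF cP (by (delta Cfsg.Agent.KFacts.TwESix.Btw.bt Cfsg.Agent.KFacts.TwESix.Btw.ca Cfsg.Agent.KFacts.TwESix.Btw.dd Cfsg.Agent.KFacts.TwESix.Comb.bf; set_option synthInstance.maxSize 100000 in exact Cfsg.Agent.Lib.Refl.of (by decide +kernel)))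
theorem cM1 : ∀ x ∈ M1, ∀ y ∈ M1, ∀ z ∈ rts, bt x y z → z ∈ M1 := cF cM0 (by (delta Cfsg.Agent.KFacts.TwESix.Btw.bt Cfsg.Agent.KFacts.TwESix.Btw.ca Cfsg.Agent.KFacts.TwESix.Btw.dd Cfsg.Agent.KFacts.TwESix.Comb.bf; set_option synthInstance.maxSize 100000 in exact Cfsg.Agent.Lib.Refl.of (by decide +kernel)))
theorem cM2 : ∀ x ∈ M2, ∀ y ∈ M2, ∀ z ∈ rts, bt x y z → z ∈ M2 := cF cM1 (by (delta Cfsg.Agent.KFacts.TwESix.Btw.bt Cfsg.Agent.KFacts.TwESix.Btw.ca Cfsg.Agent.KFacts.TwESix.Btw.dd Cfsg.Agent.KFacts.TwESix.Comb.bf; set_option synthInstance.maxSize 100000 in exact Cfsg.Agent.Lib.Refl.of (by decide +kernel)))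
theorem cM3 : ∀ x ∈ M3, ∀ y ∈ M3, ∀ z ∈ rts, bt x y z → z ∈ M3 := cF cM2 (by (delta Cfsg.Agent.KFacts.TwESix.Btw.bt Cfsg.Agent.KFacts.TwESix.Btw.ca Cfsg.Agent.KFacts.TwESix.Btw.dd Cfsg.Agent.KFacts.TwESix.Comb.bf; set_option synthInstance.maxSize 100000 in exact Cfsg.Agent.Lib.Refl.of (by decide +kernel)))
theorem cE : ∀ x ∈ E, ∀ y ∈ E, ∀ z ∈ rts, bt x y z → z ∈ E := by decide +kernel
theorem cN0 : ∀ x ∈ N0, ∀ y ∈ N0, ∀ z ∈ rts, bt x y z → z ∈ N0 := cF cP (by (delta Cfsg.Agent.KFacts.TwESix.Btw.bt Cfsg.Agent.KFacts.TwESix.Btw.ca Cfsg.Agent.KFacts.TwESix.Btw.dd Cfsg.Agent.KFacts.TwESix.Comb.bf; set_option synthInstance.maxSize 100000 in exact Cfsg.Agent.Lib.Refl.of (by decide +kernel)))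
theorem cN1 : ∀ x ∈ N1, ∀ y ∈ N1, ∀ z ∈ rts, bt x y z → z ∈ N1 := cF cN0 (by (delta Cfsg.Agent.KFacts.TwESix.Btw.bt Cfsg.Agent.KFacts.TwESix.Btw.ca Cfsg.Agent.KFacts.TwESix.Btw.dd Cfsg.Agent.KFacts.TwESix.Comb.bf; set_option synthInstance.maxSize 100000 in exact Cfsg.Agent.Lib.Refl.of (by decide +kernel)))
theorem cN2 : ∀ x ∈ N2, ∀ y ∈ N2, ∀ z ∈ rts, bt x y z → z ∈ N2 := cF cP (by (delta Cfsg.Agent.KFacts.TwESix.Btw.bt Cfsg.Agent.KFacts.TwESix.Btw.ca Cfsg.Agent.KFacts.TwESix.Btw.dd Cfsg.Agent.KFacts.TwESix.Comb.bf; set_option synthInstance.maxSize 100000 in exact Cfsg.Agent.Lib.Refl.of (by decide +kernel)))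

theorem okM3 : ∀ x ∈ [(sr 1 : Fin 4 → ℤ), -sr 1], ∀ y ∈ M3, x = y ∨ Ok x y M3 := by (delta Cfsg.Agent.H743.AH.SixA.Ok Cfsg.Agent.KFacts.TwESix.Btw.bt Cfsg.Agent.KFacts.TwESix.Comb.bf Cfsg.Agent.KFacts.TwESix.Btw.ca Cfsg.Agent.KFacts.TwESix.Btw.dd; set_option synthInstance.maxSize 100000 in exact Cfsg.Agent.Lib.Refl.of (by decide +kernel))
theorem okE : ∀ x ∈ [(sr 1 : Fin 4 → ℤ), -sr 1], ∀ y ∈ E, x = y ∨ Ok x y E := by decide +kernel
theorem okN1 : ∀ x ∈ [(sr 0 : Fin 4 → ℤ), -sr 0], ∀ y ∈ N1, x = y ∨ Ok x y N1 := by (delta Cfsg.Agent.H743.AH.SixA.Ok Cfsg.Agent.KFacts.TwESix.Btw.bt Cfsg.Agent.KFacts.TwESix.Comb.bf Cfsg.Agent.KFacts.TwESix.Btw.ca Cfsg.Agent.KFacts.TwESix.Btw.dd; set_option synthInstance.maxSize 100000 in exact Cfsg.Agent.Lib.Refl.of (by decide +kernel))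
theorem ok4 : ∀ x ∈ [(sr 0 : Fin 4 → ℤ), -sr 0], ∀ y ∈ [e4], x = y ∨ Ok x y [e4] := by decide +kernel

theorem disjE : ∀ x ∈ E, x ∉ M3 := by decide +kernel
theorem interN : ∀ x ∈ N0, x ∈ N2 → x ∈ N1 := by decide +kernel
theorem l1_mem : l1 ∈ rts ∧ bf l1 l1 = 4 ∧ 0 ≤ bf e2 l1 ∧ l1 ∈ M2 := by decide +kernel
theorem e_M : e4 ∈ M0 ∧ e3 ∈ M1 ∧ e4 ∈ N0 := by decide +kernel
theorem pair_e : bf e4 e2 = 0 ∧ bf e3 e2 = 0 ∧ e4 + e2 ∈ rts ∧ e3 + e2 ∈ rts ∧ bf (e4 + e2) (e4 + e2) = 4 ∧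
    bf (e3 + e2) (e3 + e2) = 4 ∧ 0 ≤ bf e4 (e3 + e2) ∧ 0 ≤ bf (e4 + e2) (e3 + e2) ∧ e3 + e2 = e4 + e2 + sr 1 ∧
    bf (e4 + e2) (e4 + e2) = bf (sr 1) (sr 1) ∧ 2 * bf (e4 + e2) (sr 1) = - bf (e4 + e2) (e4 + e2) ∧
    e4 + e2 ≠ e3 + e2 := by decide +kernel
theorem refl_a1 : Cfsg.Agent.Nodes.RGDFold.refl A 1 (Cfsg.Agent.Nodes.RGDFold.refl A 0 (sr 1)) = sr 0 ∧
    Cfsg.Agent.Nodes.RGDFold.refl A 1 (Cfsg.Agent.Nodes.RGDFold.refl A 0 e2) = e4 := by decide +kernel

variable {W Y : Type*} [Group W] [Group Y] {cs : CoxeterSystem CoxeterMatrix.F₄ W} {p : ℕ} {T : Subgroup Y}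
  {n : Fin 4 → Y} {X : (Fin 4 → ℤ) → Subgroup Y}

theorem RootsJ_single {i : Fin 4} {x : Fin 4 → ℤ} (hx : x ∈ RootsJ cs isCartan ({i} : Set (Fin 4))) :
    x ∈ [(sr i : Fin 4 → ℤ), -sr i] := by
  obtain ⟨c, hc⟩ : ∃ c : ℤ, x = c • sr i := by
    refine ⟨x i, funext fun j => ?_⟩
    by_cases hj : j = i
    · subst hj; rw [Pi.smul_apply, sr_self, smul_eq_mul, mul_one]
    · rw [hx.2 j hj, Pi.smul_apply, sr_ne hj, smul_zero]
  have hu := isUnit_of_smul cs isCartan hx.1 c hc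
  rw [Int.isUnit_iff] at hu
  rcases hu with rfl | rfl
  · rw [hc, one_smul]; simp
  · rw [hc, neg_one_smul]; simp

theorem NotJ_1 : NotJ cs isCartan ({1} : Set (Fin 4)) ⊆ st M0 := by
  rintro x ⟨hx, h0, k, hk, hk0⟩
  refine List.mem_filter.2 ⟨mem_pos.1 ⟨hx, h0⟩, decide_eq_true ?_⟩
  rintro rfl
  rw [sr_ne hk] at hk0
  exact absurd hk0 (lt_irrefl _)

theorem NotJ_0 : NotJ cs isCartan ({0} : Set (Fin 4)) ⊆ st N0 := by
  rintro x ⟨hx, h0, k, hk, hk0⟩
  refine List.mem_filter.2 ⟨mem_pos.1 ⟨hx, h0⟩, decide_eq_true ?_⟩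
  rintro rfl
  rw [sr_ne hk] at hk0
  exact absurd hk0 (lt_irrefl _)

theorem PosNe_2 : RGD.PosNe cs isCartan 2 ⊆ st N2 := by
  rintro x ⟨hx, h0, h1⟩
  refine List.mem_filter.2 ⟨mem_pos.1 ⟨hx, h0⟩, decide_eq_true ?_⟩
  rw [e4_mem.2.1]
  exact h1

section

variable (R : RGD cs isCartan p T n X) (lr : ∀ a, IsRoot cs isCartan a → bf a a = 4 → LR R a)

include R lr

theorem LJ_norm {i : Fin 4} {L : List (Fin 4 → ℤ)} (hL : ∀ y ∈ L, y ∈ rts)
    (habs : ∀ x ∈ [(sr i : Fin 4 → ℤ), -sr i], ∀ y ∈ L, x = y ∨ Ok x y L) {g v : Y}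
    (hg : g ∈ LJ cs isCartan T X ({i} : Set (Fin 4))) (hv : v ∈ RGD.Sup X (st L)) :
    g * v * g⁻¹ ∈ RGD.Sup X (st L) := by
  have : Finite W := finiteW cs
  have h1 : LJ cs isCartan T X ({i} : Set (Fin 4)) ≤ Subgroup.normalizer (RGD.Sup X (st L) : Set Y) := by
    refine sup_le (R.T_le_normalizer fun _ hx => (mem_rts cs).2 (hL _ hx)) (RGD.Sup_le fun x hx => ?_)
    exact X_le_norm R lr ((mem_rts cs).1 hx.1) hL (habs x (RootsJ_single hx))
  exact (Subgroup.mem_normalizer_iff.1 (h1 hg) v).1 hv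

/-- an element of a direct product commuting with a product commutes with the factors -/
theorem comm_fst {L L' : List (Fin 4 → ℤ)} (hL : ∀ x ∈ L, x ∈ prts) (hL' : ∀ x ∈ L', x ∈ prts)
    (hc : ∀ x ∈ L, ∀ y ∈ L, ∀ z ∈ rts, bt x y z → z ∈ L) (hc' : ∀ x ∈ L', ∀ y ∈ L', ∀ z ∈ rts, bt x y z → z ∈ L')
    (hd : ∀ x ∈ L, x ∉ L') {a u v : Y} (hu : u ∈ RGD.Sup X (st L)) (hv : v ∈ RGD.Sup X (st L'))
    (hau : a * u * a⁻¹ ∈ RGD.Sup X (st L)) (hav : a * v * a⁻¹ ∈ RGD.Sup X (st L'))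
    (h : (u * v) * a = a * (u * v)) : u * a = a * u := by
  have : Finite W := finiteW cs
  have h1 : (a * u * a⁻¹) * (a * v * a⁻¹) = u * v := by
    calc (a * u * a⁻¹) * (a * v * a⁻¹) = (a * (u * v)) * a⁻¹ := by group
      _ = _ := by rw [← h]; group
  have h2 : u⁻¹ * (a * u * a⁻¹) = v * (a * v * a⁻¹)⁻¹ := by
    calc u⁻¹ * (a * u * a⁻¹) = u⁻¹ * ((a * u * a⁻¹) * (a * v * a⁻¹)) * (a * v * a⁻¹)⁻¹ := by group
      _ = _ := by rw [h1]; group
  have h3 : u⁻¹ * (a * u * a⁻¹) ∈ RGD.Sup X (st L ∩ st L') := by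
    rw [← Nodes.Unique.inf_eq R (st_pos hL) (st_pos hL') (closed_st hL hc) (closed_st hL' hc')]
    have h6 : u⁻¹ * (a * u * a⁻¹) ∈ RGD.Sup X (st L) :=
      (RGD.Sup X (st L)).mul_mem ((RGD.Sup X (st L)).inv_mem hu) hau
    have h7 : u⁻¹ * (a * u * a⁻¹) ∈ RGD.Sup X (st L') := by
      rw [h2]
      exact (RGD.Sup X (st L')).mul_mem hv ((RGD.Sup X (st L')).inv_mem hav)
    exact ⟨h6, h7⟩
  have h4 : RGD.Sup X (st L ∩ st L') ≤ ⊥ := by
    refine RGD.Sup_le ?_
    rintro z ⟨h5, h6⟩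
    exact absurd h6 (hd z h5)
  have h5 := Subgroup.mem_bot.1 (h4 h3)
  rw [inv_mul_eq_one] at h5
  calc u * a = (a * u * a⁻¹) * a := by rw [← h5]
    _ = a * u := by group

/-- **Minimal parabolic of type `{1}`.** -/
theorem of_line [Finite Y] (hcard : Nat.card (X (sr 0)) < Nat.card (X (sr 3))) {a : Y}
    (haL : a ∈ LJ cs isCartan T X ({1} : Set (Fin 4))) (hm : GMin cs isCartan T X a {1})
    (h1 : ∀ x ∈ X (sr 2), ∃ u ∈ VJ cs isCartan X (({1} : Finset (Fin 4)) : Set (Fin 4)), u * a = a * u ∧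
      ∃ v ∈ RGD.Sup X (RGD.PosNe cs isCartan 2), u = x * v)
    (h0 : ∀ g : Y, GMin cs isCartan T X (g * a * g⁻¹) {0} → ∀ x ∈ X (sr 2),
      ∃ u ∈ VJ cs isCartan X (({0} : Finset (Fin 4)) : Set (Fin 4)), u * (g * a * g⁻¹) = (g * a * g⁻¹) * u ∧
      ∃ v ∈ RGD.Sup X (RGD.PosNe cs isCartan 2), u = x * v) : False := by
  have hW : Finite W := finiteW cs
  obtain ⟨h4a, h4b, h4c, h4d⟩ := e4_mem
  obtain ⟨h3a, h3b, h3c⟩ := e3_mem
  obtain ⟨h2a, h2b, h2c, h2d⟩ := e2_mem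
  obtain ⟨hl1, hl2, hl3, hl4⟩ := l1_mem
  obtain ⟨q1, q2, q3, q4, q5, q6, q7, q8, q9, q10, q11, q12⟩ := pair_e
  have hr4 := (mem_rts cs).2 h4c
  have hr3 := (mem_rts cs).2 h3b
  have hr2 := (mem_rts cs).2 h2b
  have hrl := (mem_rts cs).2 hl1
  have hr42 := (mem_rts cs).2 q3
  have hr32 := (mem_rts cs).2 q4
  rw [Finset.coe_singleton] at h1
  rw [← h4b] at h1
  -- the first position: `a` centralises `X e2`
  have hk : Rp cs R.nsys (cs.simple 1 * cs.simple 0) (n 1 * n 0) :=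
    (rp_simple cs R.nsys 1).mul (rp_simple cs R.nsys 0)
  set k : Y := n 1 * n 0 with hkdef
  have hkL : k * a * k⁻¹ ∈ LJ cs isCartan T X ({0} : Set (Fin 4)) := by
    refine conj_mem_LJ R hk (J := {1}) (fun x hx => ?_) haL
    have h3 : rep cs isCartan (cs.simple 1 * cs.simple 0) (sr 1) = sr 0 := by
      rw [rep_mul_apply, rep_simple_refl, rep_simple_refl, refl_a1.1]
    have h4 : (sr 0 : Fin 4 → ℤ) ∈ RootsJ cs isCartan ({0} : Set (Fin 4)) :=
      PosJ_subset _ (sr_mem_PosJ (Set.mem_singleton 0))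
    rcases List.mem_cons.1 (RootsJ_single hx) with rfl | h2
    · rw [h3]; exact h4
    · rw [List.mem_singleton] at h2
      rw [h2, map_neg, h3]
      exact RootsJ.neg h4
  have hgm : GMin cs isCartan T X (k * a * k⁻¹) {0} := hm.conj (by
    rw [Finset.coe_singleton]; exact LJ_le_PJ hkL) rfl
  have hcen : ∀ g ∈ X e2, g * a = a * g := by
    intro g hg
    set a0 := k * a * k⁻¹ with ha0
    have hg0 : k * g * k⁻¹ ∈ X e4 := by
      have := R.conj_mem hk hr2 hg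
      rwa [rep_mul_apply, rep_simple_refl, rep_simple_refl, refl_a1.2] at this
    set g0 := k * g * k⁻¹ with hg0'
    obtain ⟨u, hu, hua, v, hv, e⟩ := h0 k hgm g0 (by rw [← h4b]; exact hg0)
    rw [Finset.coe_singleton] at hu
    have hu' : u ∈ RGD.Sup X (st N0) := RGD.Sup_mono NotJ_0 hu
    have hv' : v ∈ RGD.Sup X (st N1) := by
      have hv2 : v ∈ RGD.Sup X (st N2) := RGD.Sup_mono PosNe_2 hv
      have hv0 : v ∈ RGD.Sup X (st N0) := by
        have : v = g0⁻¹ * u := by rw [e]; group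
        rw [this]
        exact mul_mem (inv_mem (RGD.le_Sup (S := st N0) e_M.2.2 hg0)) hu'
      have h5 : v ∈ RGD.Sup X (st N0 ∩ st N2) := by
        rw [← Nodes.Unique.inf_eq R (st_pos N0_sub) (st_pos N2_sub) (closed_st N0_sub cN0) (closed_st N2_sub cN2)]
        exact ⟨hv0, hv2⟩
      exact RGD.Sup_mono (S' := st N1) (fun z hz => interN z hz.1 hz.2) h5
    have hg0s : g0 ∈ RGD.Sup X (st [e4]) := RGD.le_Sup (S := st [e4]) (by simp [st]) hg0
    have h6 : g0 * a0 = a0 * g0 := by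
      refine comm_fst R lr (L := [e4]) (L' := N1) (by decide +kernel) N1_sub (by decide +kernel) cN1 (by
        decide +kernel) hg0s hv' (LJ_norm R lr (by decide +kernel) ok4 hkL hg0s)
        (LJ_norm R lr (fun y hy => (prts_sub y (N1_sub y hy)).1) okN1 hkL hv') ?_
      rw [← e]
      exact hua
    calc g * a = k⁻¹ * (g0 * a0) * k := by rw [hg0', ha0]; group
      _ = k⁻¹ * (a0 * g0) * k := by rw [h6]
      _ = a * g := by rw [hg0', ha0]; group
  -- the second position: an element `e` of `X e4 * X e3 * X l1` centralised by `a`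
  obtain ⟨x, hx, hx1⟩ := SixFacts.exists_ne_one R hr4
  obtain ⟨u, hu, hua, v, hv, huv⟩ := h1 x hx
  have hu0 : u ∈ RGD.Sup X (st M0) := RGD.Sup_mono NotJ_1 hu
  obtain ⟨x4, hx4, m1, hm1, e1⟩ := (Nodes.Unique.mem_peel R (st_pos M0_sub) (closed_st M0_sub cM0) e_M.1).1 hu0
  rw [st_diff] at hm1
  have hxx : x4 = x := by
    have h5 : x⁻¹ * x4 ∈ RGD.Sup X (RGD.PosNe cs isCartan 2) := by
      have h6 : x⁻¹ * x4 = v * m1⁻¹ := by
        have : x4 = u * m1⁻¹ := by rw [e1]; group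
        rw [this, huv]; group
      rw [h6]
      refine mul_mem hv (inv_mem (RGD.Sup_mono (fun z hz => ?_) hm1))
      have h7 := (mem_pos (cs := cs)).2 (M1_sub z hz)
      refine ⟨h7.1, h7.2, ?_⟩
      rw [← h4b]
      exact of_decide_eq_true (List.mem_filter.1 hz).2
    have h6 := eq_one_of_mem_PosNe R (i := 2) (by rw [← h4b]; exact mul_mem (inv_mem hx) hx4) h5
    rw [inv_mul_eq_one] at h6
    exact h6.symm
  subst hxx
  obtain ⟨x3, hx3, m2, hm2, e2'⟩ := (Nodes.Unique.mem_peel R (st_pos M1_sub) (closed_st M1_sub cM1) e_M.2.1).1 hm1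
  rw [st_diff] at hm2
  obtain ⟨y, hy, m3, hm3, e3'⟩ := (Nodes.Unique.mem_peel R (st_pos M2_sub) (closed_st M2_sub cM2) hl4).1 hm2
  rw [st_diff] at hm3
  set e := x4 * x3 * y with he
  have heE : e ∈ RGD.Sup X (st E) :=
    mul_mem (mul_mem (RGD.le_Sup (S := st E) (by decide +kernel : e4 ∈ E) hx4)
      (RGD.le_Sup (S := st E) (by decide +kernel : e3 ∈ E) hx3)) (RGD.le_Sup (S := st E) (by decide +kernel : l1 ∈ E) hy)
  have hea : e * a = a * e := by
    refine comm_fst R lr (L := E) (L' := M3) E_sub M3_sub cE cM3 disjE heE hm3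
      (LJ_norm R lr (fun y hy => (prts_sub y (E_sub y hy)).1) okE haL heE)
      (LJ_norm R lr (fun y hy => (prts_sub y (M3_sub y hy)).1) okM3 haL hm3) ?_
    have e5 : e * m3 = u := by rw [he, e1, e2', e3']; group
    rw [e5]
    exact hua
  -- the commutator
  obtain ⟨g, hg, hne⟩ := orth_nd R lr hcard hr4 hr2 h4d h2c q1 hx hx1
  have hga := hcen g hg
  set r := ⁅x4, g⁆ with hr
  set s := ⁅x3, g⁆ with hs
  have hrm : r ∈ X (e4 + e2) := SixFacts.orth_mem R hr4 hr2 h4d h2c q1 hx4 hg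
  have hsm : s ∈ X (e3 + e2) := SixFacts.orth_mem R hr3 hr2 h3c h2c q2 hx3 hg
  have hr1 : r ≠ 1 := fun h5 => hne (commutatorElement_eq_one_iff_mul_comm.1 h5)
  have hyg : g * y = y * g := long_comm R lr hr2 hrl hl2 hl3 hg hy
  have hxs : x4 * s = s * x4 := long_comm R lr hr4 hr32 q6 q7 hx4 hsm
  have hrs : r * s = s * r := long_comm R lr hr42 hr32 q6 q8 hrm hsm
  have hd : ⁅e, g⁆ = r * s := by
    have k1 : ⁅e, g⁆ = x4 * s * x4⁻¹ * r := by
      have k2 : y * g * y⁻¹ = g := by rw [← hyg]; group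
      calc ⁅e, g⁆ = x4 * x3 * (y * g * y⁻¹) * x3⁻¹ * x4⁻¹ * g⁻¹ := by rw [he, commutatorElement_def]; group
        _ = x4 * x3 * g * x3⁻¹ * x4⁻¹ * g⁻¹ := by rw [k2]
        _ = _ := by rw [hs, hr, commutatorElement_def, commutatorElement_def]; group
    rw [k1, hxs, hrs]; group
  have hda : a * (r * s) = (r * s) * a := by
    rw [← hd]
    have c1 : Commute a e := hea.symm
    have c2 : Commute a g := hga.symm
    rw [commutatorElement_def]
    exact (((c1.mul_right c2).mul_right c1.inv_right).mul_right c2.inv_right).eq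
  -- the natural module
  have hA : A2 cs isCartan (e4 + e2) (sr 1) := a2 cs hr42 ((mem_rts cs).2 sr01.2.1) q10 q11
  obtain ⟨g1, hg1, hg2⟩ := nat_mod R hA hrm (s := s) (by rw [← q9]; exact hsm)
  have hrs1 : r * s ≠ 1 := by
    intro h5
    have h6 : r ∈ X (e4 + e2) ⊓ X (e3 + e2) := by
      refine ⟨hrm, ?_⟩
      rw [mul_eq_one_iff_eq_inv.1 h5]
      exact (X (e3 + e2)).inv_mem hsm
    rw [X_inf_X R hr42 hr32 q12, Subgroup.mem_bot] at h6
    exact hr1 h6
  have hB := mem_B_of_nat R hA hg2 (by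
    intro h5
    apply hrs1
    have : r * s = g1⁻¹ * (g1 * (r * s) * g1⁻¹) * g1 := by group
    rw [this, h5]; group) (a := g1 * a * g1⁻¹) (mul_mem (mul_mem hg1 haL) (inv_mem hg1)) (by
    calc g1 * a * g1⁻¹ * (g1 * (r * s) * g1⁻¹) = g1 * (a * (r * s)) * g1⁻¹ := by group
      _ = g1 * ((r * s) * a) * g1⁻¹ := by rw [hda]
      _ = _ := by group)
  have h5 := hm.min g1⁻¹ ∅ (by rw [inv_inv]; exact B_le_PJ hB)
  exact absurd h5 (by decide)

end

end Cfsg.Agent.H743.AH.SixC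
end

-- part: H743/AH/SixD
section
prune_inst 0x40001c4282000000002b04001401040004861d010040072074600e01411020740038804811000040021000002000820041180080040020800000b00000000600e807180c00000000000000000000000000041000000000000
set_option linter.all false
open scoped Cfsg.Agent.FastGrp

/-!
# Products of two `p`-regular classes, `²E₆(q)`: the assembly (helper743)

`R : RGD cs isCartan p T n X` of type `F₄` (nodes `0, 1` long, `2, 3` short) with `|X (sr 2)| = |X (sr 0)|²`.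

* `tor_eq_one` : an element of the torus all of whose conjugates under `N` centralise `X (sr 3)` is `1`;
* `dt_empty`, `dp_line`, `dt_plane` : minimal parabolics of type `∅`; `{0}`, `{1}`; `{0, 1}`;
* `notA_rgd`.
-/

set_option autoImplicit false
set_option linter.unusedSectionVars false

namespace Cfsg.Agent.H743.AH.SixD

open CoxeterSystem Cfsg.Agent.ChevalleyStructure.CoxeterGeom Cfsg.Agent.Tits.Roots Cfsg.Agent.Tits.Core
  Cfsg.Agent.Tits.RootComb Cfsg.Agent.Nodes.Comb Cfsg.Agent.Nodes.Reps Cfsg.Agent.Nodes.BNOf Cfsg.Agent.Nodes.BNOf.RGD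
  Cfsg.Agent.FixBN Cfsg.Agent.Tits.OfBN Cfsg.Agent.Tits.OppRes Cfsg.Agent.LieExceptional.BNPairCore
  Cfsg.Agent.OddHalf.Table.AutBldg Cfsg.Agent.OddHalf.Table.AutRGD Cfsg.Agent.OddHalf.Table.AutNorm
  Cfsg.Agent.Tits Cfsg.Agent.Nodes.RGDLib Cfsg.Agent.UGT.U2.FOne Cfsg.Agent.H330.ClassRes Cfsg.Agent.H330.ClassProd
  Cfsg.Agent.Nodes.Bruhat Cfsg.Agent.Nodes.LeviDec Cfsg.Agent.Nodes.StabComb Cfsg.Agent.KFacts.RgdEx
  Cfsg.Agent.Nodes.RGDTwE6 Cfsg.Agent.KFacts.TwESix.Comb Cfsg.Agent.KFacts.TwESix.Btw Cfsg.Agent.KFacts.RgdTI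
  Cfsg.Agent.KFacts.RgdOdd Cfsg.Agent.KFacts.RgdSL
  Cfsg.Agent.H743.AH.SixFacts Cfsg.Agent.H743.AH.RgdPos Cfsg.Agent.H743.AH.SixA
  Cfsg.Agent.H743.AH.SixB Cfsg.Agent.H743.AH.SixC Cfsg.Agent.H330.ClassTorus Cfsg.Agent.H330.ClassLaced
  Cfsg.Agent.H330.ClassRGD
open Cfsg.Agent.Tits.Core.Bldg
open scoped commutatorElement

/-! ### Combinatorics -/

/-- the nodes `i` with `DT a i`, for minimal residues of type `K` -/
def dset (K : Finset (Fin 4)) : Finset (Fin 4) :=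
  if K = ∅ then {2, 3} else if K = {0} ∨ K = {1} then {0, 1} else if K = {2} ∨ K = {3} then {2, 3} else
  if K = {0, 1} then {0, 1, 2} else if K = {0, 2} ∨ K = {0, 3} ∨ K = {1, 3} then Finset.univ else K

/-- the nodes `i` with `DP a i`, for minimal residues of type `K` -/
def pset (K : Finset (Fin 4)) : Finset (Fin 4) := if K = {0} ∨ K = {1} then {0, 1, 2} else dset K

theorem comb : ∀ K L : Finset (Fin 4), ∃ i, (i ∈ dset K ∧ i ∈ pset L) ∨ (i ∈ pset K ∧ i ∈ dset L) := by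
  decide +kernel

theorem step (a b : Fin 4) (K : Finset (Fin 4)) (hb : b ∈ K) (ha : a ∉ K) (hab : CoxeterMatrix.F₄ a b = 3)
    (h : ∀ j ∈ K, j ≠ b → CoxeterMatrix.F₄ j a = 2) (h' : ∀ j ∈ K.erase b, CoxeterMatrix.F₄ j b = 2) :
    Step CoxeterMatrix.F₄ K (insert a (K.erase b)) :=
  ⟨a, [b], ha, Walk.cons hb hab h (Walk.nil h'), by simp, rfl⟩

theorem s01 : Step CoxeterMatrix.F₄ {0} {1} :=
  step 1 0 {0} (by decide +kernel) (by decide +kernel) (by decide +kernel) (by decide +kernel) (by decide +kernel)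
theorem s10 : Step CoxeterMatrix.F₄ {1} {0} :=
  step 0 1 {1} (by decide +kernel) (by decide +kernel) (by decide +kernel) (by decide +kernel) (by decide +kernel)
theorem s23 : Step CoxeterMatrix.F₄ {2} {3} :=
  step 3 2 {2} (by decide +kernel) (by decide +kernel) (by decide +kernel) (by decide +kernel) (by decide +kernel)
theorem s32 : Step CoxeterMatrix.F₄ {3} {2} :=
  step 2 3 {3} (by decide +kernel) (by decide +kernel) (by decide +kernel) (by decide +kernel) (by decide +kernel)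
theorem t23 : Step CoxeterMatrix.F₄ {0, 2} {0, 3} := by
  have := step 3 2 {0, 2} (by decide +kernel) (by decide +kernel) (by decide +kernel) (by decide +kernel)
    (by decide +kernel)
  rwa [show insert (3 : Fin 4) (({0, 2} : Finset (Fin 4)).erase 2) = {0, 3} by decide +kernel] at this
theorem t32 : Step CoxeterMatrix.F₄ {0, 3} {0, 2} := by
  have := step 2 3 {0, 3} (by decide +kernel) (by decide +kernel) (by decide +kernel) (by decide +kernel)
    (by decide +kernel)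
  rwa [show insert (2 : Fin 4) (({0, 3} : Finset (Fin 4)).erase 3) = {0, 2} by decide +kernel] at this
theorem t01 : Step CoxeterMatrix.F₄ {0, 3} {1, 3} := by
  have := step 1 0 {0, 3} (by decide +kernel) (by decide +kernel) (by decide +kernel) (by decide +kernel)
    (by decide +kernel)
  rwa [show insert (1 : Fin 4) (({0, 3} : Finset (Fin 4)).erase 0) = {1, 3} by decide +kernel] at this
theorem t10 : Step CoxeterMatrix.F₄ {1, 3} {0, 3} := by
  have := step 0 1 {1, 3} (by decide +kernel) (by decide +kernel) (by decide +kernel) (by decide +kernel)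
    (by decide +kernel)
  rwa [show insert (0 : Fin 4) (({1, 3} : Finset (Fin 4)).erase 1) = {0, 3} by decide +kernel] at this

theorem hit_all {K : Finset (Fin 4)} (hK : K = {0, 2} ∨ K = {0, 3} ∨ K = {1, 3}) (i : Fin 4) :
    Hit CoxeterMatrix.F₄ K i := by
  have h03 : Hit CoxeterMatrix.F₄ {0, 3} i := by
    fin_cases i
    · exact Hit.of_mem (by decide)
    · exact Hit.head t01 (Hit.of_mem (by decide))
    · exact Hit.head t32 (Hit.of_mem (by decide))
    · exact Hit.of_mem (by decide)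
  rcases hK with rfl | rfl | rfl
  · exact Hit.head t23 h03
  · exact h03
  · exact Hit.head t10 h03

theorem hit_of_dset {K : Finset (Fin 4)} (h0 : K ≠ ∅) (h01 : K ≠ {0, 1}) {i : Fin 4} (hi : i ∈ dset K) :
    Hit CoxeterMatrix.F₄ K i := by
  unfold dset at hi
  rw [if_neg h0] at hi
  split_ifs at hi with h1 h2 h3
  · rcases h1 with rfl | rfl
    · rcases (by simpa using hi : i = 0 ∨ i = 1) with rfl | rfl
      · exact Hit.of_mem (by decide)
      · exact Hit.head s01 (Hit.of_mem (by decide))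
    · rcases (by simpa using hi : i = 0 ∨ i = 1) with rfl | rfl
      · exact Hit.head s10 (Hit.of_mem (by decide))
      · exact Hit.of_mem (by decide)
  · rcases h2 with rfl | rfl
    · rcases (by simpa using hi : i = 2 ∨ i = 3) with rfl | rfl
      · exact Hit.of_mem (by decide)
      · exact Hit.head s23 (Hit.of_mem (by decide))
    · rcases (by simpa using hi : i = 2 ∨ i = 3) with rfl | rfl
      · exact Hit.head s32 (Hit.of_mem (by decide))
      · exact Hit.of_mem (by decide)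
  · exact hit_all h3 i
  · exact Hit.of_mem hi

theorem L3_ne : ∀ x ∈ L3, x ≠ sr 2 := by decide +kernel

/-- `sr 0 = β₁ + β₂` with `β₁ ⟂ β₂` short -/
def b1 : Fin 4 → ℤ := ![1, 1, 1, 0]
def b2 : Fin 4 → ℤ := ![0, -1, -1, 0]

theorem b12 : b1 ∈ rts ∧ b2 ∈ rts ∧ bf b1 b1 = 2 ∧ bf b2 b2 = 2 ∧ bf b1 b2 = 0 ∧ b1 + b2 = sr 0 := by
  decide +kernel

variable {W Y : Type*} [Group W] [Group Y] {cs : CoxeterSystem CoxeterMatrix.F₄ W} {p : ℕ} {T : Subgroup Y}
  {n : Fin 4 → Y} {X : (Fin 4 → ℤ) → Subgroup Y}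

section

variable (R : RGD cs isCartan p T n X) (lr : ∀ a, IsRoot cs isCartan a → bf a a = 4 → LR R a)

include R

/-- The subgroup generated by the root groups is normal. -/
theorem all_normal (hgen : RGD.B cs isCartan T X ⊔ NN cs R.nsys = ⊤) :
    (RGD.Sup X {x | IsRoot cs isCartan x}).Normal := by
  have : Finite W := finiteW cs
  set H := RGD.Sup X {x | IsRoot cs isCartan x} with hH
  have hB : RGD.B cs isCartan T X ≤ Subgroup.normalizer (H : Set Y) :=
    sup_le (R.T_le_normalizer fun _ hx => hx)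
      ((RGD.Sup_mono (fun x hx => hx.1)).trans (Subgroup.le_normalizer (H := H)))
  have hk : ∀ (w : W) (k : Y), Rp cs R.nsys w k → k ∈ Subgroup.normalizer (H : Set Y) := by
    have h1 : ∀ (w : W) (k : Y), Rp cs R.nsys w k → cj k H ≤ H := fun w k hk =>
      cj_Sup_le R hk (fun x hx => hx) fun x hx => hx.act w
    intro w k hk
    rw [mem_normalizer_iff_cj]
    apply le_antisymm (h1 w k hk)
    have h2 := cj_mono k (h1 _ _ hk.inv)
    rwa [cj_cj_inv] at h2
  have hall : ∀ g : Y, g ∈ Subgroup.normalizer (H : Set Y) := by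
    intro g
    have hGG : GG cs isCartan T X = ⊤ := by
      rw [eq_top_iff, ← hgen]
      exact sup_le B_le_GG (NN_le_GG R)
    obtain ⟨w, b₁, hb₁, k, hkw, b₂, hb₂, rfl⟩ := (mem_GG R).1 (show g ∈ GG cs isCartan T X by rw [hGG]; trivial)
    exact mul_mem (mul_mem (hB hb₁) (hk w k hkw)) (hB hb₂)
  exact ⟨fun x hx g => (Subgroup.mem_normalizer_iff.1 (hall g) x).1 hx⟩

include lr

/-- An element of the torus all of whose conjugates under `N` centralise `X (sr 3)` is `1`. -/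
theorem tor_eq_one [Finite Y] [IsSimpleGroup Y] (hgen : RGD.B cs isCartan T X ⊔ NN cs R.nsys = ⊤)
    (hcore : (RGD.B cs isCartan T X).normalCore = ⊥) (hcard : Nat.card (X (sr 0)) < Nat.card (X (sr 3)))
    (hT : ∀ t ∈ T, ∀ u ∈ X (sr 0), u ≠ 1 → t * u * t⁻¹ = u → ∀ v ∈ X (sr 0), t * v * t⁻¹ = v) {t : Y} (ht : t ∈ T)
    (h : ∀ (w : W) (k : Y), Rp cs R.nsys w k → ∀ v ∈ X (sr 3), (k⁻¹ * t * k) * v * (k⁻¹ * t * k)⁻¹ = v) : t = 1 := by
  have : Finite W := finiteW cs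
  obtain ⟨q1, q2, q3, q4, q5, q6⟩ := b12
  have hr1 := (mem_rts cs).2 q1
  have hr2 := (mem_rts cs).2 q2
  -- the short root groups
  have hsh : ∀ t ∈ T, (∀ (w : W) (k : Y), Rp cs R.nsys w k → ∀ v ∈ X (sr 3),
      (k⁻¹ * t * k) * v * (k⁻¹ * t * k)⁻¹ = v) → ∀ x, IsRoot cs isCartan x → bf x x = 2 → ∀ v ∈ X x, v * t = t * v := by
    intro t _ h x hx hxx v hv
    obtain ⟨w, hw⟩ := exists_rep_short cs hx hxx
    obtain ⟨k, hk⟩ := exists_rp cs R.nsys w
    have h1 : k⁻¹ * v * k ∈ X (sr 3) := by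
      have h2 := R.conj_mem hk.inv hx hv
      rw [← hw, ← rep_mul_apply, inv_mul_cancel, map_one, Module.End.one_apply, inv_inv] at h2
      exact h2
    have h2 := h w k hk _ h1
    have h3 : t * v * t⁻¹ = v := by
      calc t * v * t⁻¹ = k * ((k⁻¹ * t * k) * (k⁻¹ * v * k) * (k⁻¹ * t * k)⁻¹) * k⁻¹ := by group
        _ = k * (k⁻¹ * v * k) * k⁻¹ := by rw [h2]
        _ = v := by group
    calc v * t = (t * v * t⁻¹) * t := by rw [h3]
      _ = t * v := by group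
  -- `X (sr 0)`
  have h0 : ∀ t ∈ T, (∀ (w : W) (k : Y), Rp cs R.nsys w k → ∀ v ∈ X (sr 3),
      (k⁻¹ * t * k) * v * (k⁻¹ * t * k)⁻¹ = v) → ∀ v ∈ X (sr 0), t * v * t⁻¹ = v := by
    intro t ht h
    have h1 := hsh t ht h
    obtain ⟨u, hu, hu1⟩ := exists_ne_one R hr1
    obtain ⟨v, hv, huv⟩ := orth_nd R lr hcard hr1 hr2 q3 q4 q5 hu hu1
    have h2 := orth_mem R hr1 hr2 q3 q4 q5 hu hv
    rw [q6] at h2
    refine hT t ht ⁅u, v⁆ h2 (fun h3 => huv (commutatorElement_eq_one_iff_mul_comm.1 h3)) ?_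
    have h4 := h1 _ hr1 q3 u hu
    have h5 := h1 _ hr2 q4 v hv
    have h6 : t * u * t⁻¹ = u := by rw [← h4]; group
    have h7 : t * v * t⁻¹ = v := by rw [← h5]; group
    calc t * ⁅u, v⁆ * t⁻¹ = ⁅t * u * t⁻¹, t * v * t⁻¹⁆ := by rw [commutatorElement_def, commutatorElement_def]; group
      _ = ⁅u, v⁆ := by rw [h6, h7]
  have hconj : ∀ (w : W) (k : Y), Rp cs R.nsys w k → k⁻¹ * t * k ∈ T ∧ ∀ (w' : W) (k' : Y), Rp cs R.nsys w' k' →
      ∀ v ∈ X (sr 3), (k'⁻¹ * (k⁻¹ * t * k) * k') * v * (k'⁻¹ * (k⁻¹ * t * k) * k')⁻¹ = v := by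
    intro w k hk
    refine ⟨?_, fun w' k' hk' v hv => ?_⟩
    · have := (Subgroup.mem_normalizer_iff.1 hk.inv.mem_normalizer t).1 ht
      rwa [inv_inv] at this
    · have := h (w * w') (k * k') (hk.mul hk') v hv
      have e : (k * k')⁻¹ * t * (k * k') = k'⁻¹ * (k⁻¹ * t * k) * k' := by group
      rwa [e] at this
  have hall : ∀ x, IsRoot cs isCartan x → ∀ v ∈ X x, v * t = t * v := by
    intro x hx v hv
    rcases norm cs hx with hl | hl
    · obtain ⟨w, hw⟩ := exists_rep_long cs hx hl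
      obtain ⟨k, hk⟩ := exists_rp cs R.nsys w
      have h1 : k⁻¹ * v * k ∈ X (sr 0) := by
        have h2 := R.conj_mem hk.inv hx hv
        rw [← hw, ← rep_mul_apply, inv_mul_cancel, map_one, Module.End.one_apply, inv_inv] at h2
        exact h2
      obtain ⟨h3, h4⟩ := hconj w k hk
      have h2 := h0 _ h3 h4 _ h1
      have h3 : t * v * t⁻¹ = v := by
        calc t * v * t⁻¹ = k * ((k⁻¹ * t * k) * (k⁻¹ * v * k) * (k⁻¹ * t * k)⁻¹) * k⁻¹ := by group
          _ = k * (k⁻¹ * v * k) * k⁻¹ := by rw [h2]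
          _ = v := by group
      calc v * t = (t * v * t⁻¹) * t := by rw [h3]
        _ = t * v := by group
    · exact hsh t ht h x hx hl v hv
  have hN := all_normal R hgen
  have htop : RGD.Sup X {x | IsRoot cs isCartan x} = ⊤ := by
    refine (hN.eq_bot_or_eq_top).resolve_left fun h1 => ?_
    obtain ⟨u, hu, hu1⟩ := exists_ne_one R hr1
    have h2 : u ∈ RGD.Sup X {x | IsRoot cs isCartan x} := RGD.le_Sup (S := {x | IsRoot cs isCartan x}) hr1 hu
    rw [h1, Subgroup.mem_bot] at h2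
    exact hu1 h2
  have hcen : ∀ g : Y, g * t = t * g := by
    intro g
    have h1 : RGD.Sup X {x | IsRoot cs isCartan x} ≤ Subgroup.centralizer ({t} : Set Y) :=
      RGD.Sup_le fun x hx v hv => Subgroup.mem_centralizer_singleton_iff.2 (hall x hx v hv)
    exact Subgroup.mem_centralizer_singleton_iff.1 (h1 (by rw [htop]; trivial))
  have h1 : t ∈ (RGD.B cs isCartan T X).normalCore := by
    intro g
    have h2 : g * t * g⁻¹ = t := by rw [hcen g]; group
    rw [h2]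
    exact T_le_B ht
  rwa [hcore, Subgroup.mem_bot] at h1

end

/-! ### The minimal parabolics -/

section Main

variable [Finite W] [Finite Y] [hp : Fact p.Prime] (R : RGD cs isCartan p T n X)
  (lr : ∀ a, IsRoot cs isCartan a → bf a a = 4 → LR R a)
  (hgen : RGD.B cs isCartan T X ⊔ NN cs R.nsys = ⊤)
  [hN : (((R.bnPair hgen).B ⊓ (R.bnPair hgen).N).subgroupOf (R.bnPair hgen).N).Normal]
  (cs' : CoxeterSystem CoxeterMatrix.F₄ (WP (R.bnPair hgen)))
  (hcs : ∀ i, cs'.simple i = QuotientGroup.mk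
    (⟨(eS R hgen i : Y), (R.bnPair hgen).subset (eS R hgen i).2⟩ : (R.bnPair hgen).N))
  (hcore : (RGD.B cs isCartan T X).normalCore = ⊥) [Fintype (Y ⧸ (R.bnPair hgen).B)]

include lr in
/-- minimal parabolics of type `{0, 1}` -/
theorem dt_plane (hcard : Nat.card (X (sr 2)) = Nat.card (X (sr 0)) ^ 2) {a : Y} (hpa : ¬ p ∣ orderOf a)
    (hm : GMin cs isCartan T X a {0, 1}) : DT (Sy R hgen cs' hcs hcore) a 2 := by
  refine dt_of_le R hgen cs' hcs hcore hm hpa fun u hu hua => ?_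
  have h1 := of_plane R lr hcard hm hu hua
  refine RGD.Sup_mono (S := st L3) (fun x hx => ?_) h1
  have h2 := prts_sub x (L0_sub x (L1_sub x (L2_sub x (L3_sub x hx))))
  exact ⟨(mem_rts cs).2 h2.1, h2.2, L3_ne x hx⟩

theorem orderOf_conj' (g a : Y) : orderOf (g * a * g⁻¹) = orderOf a :=
  orderOf_of_isConj (isConj_iff.2 ⟨g, rfl⟩)

include lr in
/-- minimal parabolics of type `{0}`, `{1}` -/
theorem dp_line (hcard : Nat.card (X (sr 0)) < Nat.card (X (sr 3))) {a : Y} (hpa : ¬ p ∣ orderOf a)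
    {K : Finset (Fin 4)} (hK : K = {0} ∨ K = {1}) (hm : GMin cs isCartan T X a K) :
    DP (Sy R hgen cs' hcs hcore) a 2 := by
  by_contra hD
  have key : ∃ g : Y, g * a * g⁻¹ ∈ LJ cs isCartan T X ({1} : Set (Fin 4)) := by
    rcases hK with rfl | rfl
    · obtain ⟨v, -, hv⟩ := exists_conj_levi R hm.mem hpa
      rw [Finset.coe_singleton] at hv
      have hk : Rp cs R.nsys (cs.simple 0 * cs.simple 1) (n 0 * n 1) :=
        (rp_simple cs R.nsys 0).mul (rp_simple cs R.nsys 1)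
      refine ⟨n 0 * n 1 * v, ?_⟩
      have h1 := conj_mem_LJ R hk (J := {0}) (J' := {1}) (fun x hx => ?_) hv
      · have e : n 0 * n 1 * v * a * (n 0 * n 1 * v)⁻¹ = n 0 * n 1 * (v * a * v⁻¹) * (n 0 * n 1)⁻¹ := by group
        rw [e]
        exact h1
      · have h3 : rep cs isCartan (cs.simple 0 * cs.simple 1) (sr 0) = sr 1 := by
          rw [rep_mul_apply, rep_simple_refl, rep_simple_refl]
          decide +kernel
        have h4 : (sr 1 : Fin 4 → ℤ) ∈ RootsJ cs isCartan ({1} : Set (Fin 4)) :=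
          PosJ_subset _ (sr_mem_PosJ (Set.mem_singleton 1))
        rcases List.mem_cons.1 (RootsJ_single hx) with rfl | h2
        · rw [h3]; exact h4
        · rw [List.mem_singleton] at h2
          rw [h2, map_neg, h3]
          exact RootsJ.neg h4
    · obtain ⟨v, -, hv⟩ := exists_conj_levi R hm.mem hpa
      rw [Finset.coe_singleton] at hv
      exact ⟨v, hv⟩
  obtain ⟨g, hg⟩ := key
  have hmg : GMin cs isCartan T X (g * a * g⁻¹) {1} :=
    hm.conj (by rw [Finset.coe_singleton]; exact LJ_le_PJ hg) (by rcases hK with rfl | rfl <;> rfl)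
  have hpg : ∀ x : Y, ¬ p ∣ orderOf (x * a * x⁻¹) := fun x => by rwa [orderOf_conj']
  have hDg : ∀ x : Y, ¬ DP (Sy R hgen cs' hcs hcore) (x * a * x⁻¹) 2 := by
    intro x hx
    apply hD
    have h1 := DP.conj R hgen cs' hcs hcore hx x⁻¹
    have e : x⁻¹ * (x * a * x⁻¹) * x⁻¹⁻¹ = a := by group
    rwa [e] at h1
  refine of_line R lr hcard hg hmg
    (fun x hx => trans_of_not_dp R hgen cs' hcs hcore hmg (hpg g) (hDg g) hx) fun x hx y hy => ?_
  have e : x * (g * a * g⁻¹) * x⁻¹ = (x * g) * a * (x * g)⁻¹ := by group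
  have h1 : ¬ p ∣ orderOf (x * (g * a * g⁻¹) * x⁻¹) := by rw [e]; exact hpg _
  have h2 : ¬ DP (Sy R hgen cs' hcs hcore) (x * (g * a * g⁻¹) * x⁻¹) 2 := by rw [e]; exact hDg _
  exact trans_of_not_dp R hgen cs' hcs hcore hx h1 h2 hy

variable [IsSimpleGroup Y]

include lr in
/-- minimal parabolics of type `∅` -/
theorem dt_empty (hcard : Nat.card (X (sr 0)) < Nat.card (X (sr 3)))
    (hT : ∀ i, ∀ t ∈ T, ∀ u ∈ X (sr i), u ≠ 1 → t * u * t⁻¹ = u → ∀ v ∈ X (sr i), t * v * t⁻¹ = v) {a : Y}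
    (ha : a ≠ 1) (hpa : ¬ p ∣ orderOf a) (hm : GMin cs isCartan T X a ∅) :
    DT (Sy R hgen cs' hcs hcore) a 2 ∧ DT (Sy R hgen cs' hcs hcore) a 3 := by
  have hW : Finite (WP (R.bnPair hgen)) := inferInstance
  have hC' : Cox cs' := inferInstance
  have hth : (Bl R hgen cs' hcs).Thick := thick (R.bnPair hgen) (eS R hgen) cs' hcs
  have htr : ∀ x y : Y ⧸ (R.bnPair hgen).B, ∃ g : Y, g • x = y := fun x y => MulAction.exists_smul_eq Y x y
  obtain ⟨v, -, hv⟩ := exists_conj_levi R hm.mem hpa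
  set b := v * a * v⁻¹ with hb
  have hbT : b ∈ T := by
    rw [Finset.coe_empty] at hv
    have h1 : LJ cs isCartan T X (∅ : Set (Fin 4)) ≤ T := by
      refine sup_le le_rfl (RGD.Sup_le fun x hx => ?_)
      exfalso
      exact hx.1.ne_zero (funext fun j => hx.2 j (Set.notMem_empty j))
    exact h1 hv
  have hb1 : b ≠ 1 := by
    intro h0
    apply ha
    have : a = v⁻¹ * b * v := by rw [hb]; group
    rw [this, h0]; group
  have hex : ∃ (w : W) (k : Y), Rp cs R.nsys w k ∧ ∃ x ∈ X (sr 3), (k⁻¹ * b * k) * x * (k⁻¹ * b * k)⁻¹ ≠ x := by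
    by_contra hcon
    push Not at hcon
    exact hb1 (tor_eq_one R lr hgen hcore hcard (hT 0) hbT hcon)
  obtain ⟨w, k, hk, x, hx, hne⟩ := hex
  set c := k⁻¹ * b * k with hc
  have hcT : c ∈ T := by
    have := (Subgroup.mem_normalizer_iff.1 hk.inv.mem_normalizer b).1 hbT
    rwa [inv_inv] at this
  have hpc : ¬ p ∣ orderOf c := by
    have e : c = (k⁻¹ * v) * a * (k⁻¹ * v)⁻¹ := by rw [hc, hb]; group
    rw [e, orderOf_conj']
    exact hpa
  have hfix : c • ch R hgen 1 = ch R hgen 1 := by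
    have : c • ch R hgen 1 = ch R hgen (c * 1) := rfl
    rw [this, mul_one, eq_comm, FixBN.OfBN.mk_eq, inv_one, one_mul]
    exact T_le_B hcT
  have hnt : NT (Bl R hgen cs' hcs) c (ch R hgen 1) 3 := by
    refine ⟨ch R hgen (x * n 3), ?_, fun h0 => hne ?_⟩
    · rw [mem_pan_iff hcs]
      exact Or.inr ⟨x, hx, by rw [one_mul]⟩
    · have h1 : ch R hgen (c * (x * n 3)) = ch R hgen (x * n 3) := h0
      rw [eq_comm, FixBN.OfBN.mk_eq] at h1
      have h2 : x⁻¹ * (c * x * c⁻¹) ∈ X (sr 3) := mul_mem (inv_mem hx) (X_conj_T R (isRoot_sr cs isCartan 3) hcT hx)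
      have h3 : x⁻¹ * (c * x * c⁻¹) = 1 := by
        refine eq_one_of_conj_mem R 3 h2 ?_
        have e : (n 3)⁻¹ * (x⁻¹ * (c * x * c⁻¹)) * n 3 =
            ((x * n 3)⁻¹ * (c * (x * n 3))) * ((n 3)⁻¹ * c * n 3)⁻¹ := by group
        rw [e]
        exact mul_mem h1 (inv_mem (T_le_B (T_conj_n R 3 hcT)))
      rw [inv_mul_eq_one] at h3
      exact h3.symm
  have hF : ∀ i, Free (Bl R hgen cs' hcs) Y p i := by
    intro i x c y z _ hc hy hz hyc hzc hyz hxy hxz
    exact free_of_rgd R hgen cs' hcs i (hT i) hc hy hz hyc hzc hyz hxy hxz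
  have h3 : DT (Sy R hgen cs' hcs hcore) c 3 :=
    dt_of_nt (Sy R hgen cs' hcs hcore) hth htr hfix hpc (hF 3) hnt
  have h2 : DT (Sy R hgen cs' hcs hcore) c 2 := by
    obtain ⟨d, hd, hnd⟩ := nt_three (Sy R hgen cs' hcs hcore) hth htr hfix hpc (i := 3) (j := 2)
      (by decide +kernel) hnt
    exact dt_of_nt (Sy R hgen cs' hcs hcore) hth htr hd hpc (hF 2) hnd
  have e : (v⁻¹ * k) * c * (v⁻¹ * k)⁻¹ = a := by rw [hc, hb]; group
  have h2' := h2.conj (v⁻¹ * k)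
  have h3' := h3.conj (v⁻¹ * k)
  rw [e] at h2' h3'
  exact ⟨h2', h3'⟩

end Main

/-! ### The theorem -/

/-- **No two `p`-regular classes whose product is a `p`-regular class: the root group data of `²E₆(q)`.** -/
theorem notA_rgd [Finite Y] [IsSimpleGroup Y] [Fact p.Prime] (R : RGD cs isCartan p T n X)
    (lr : ∀ a, IsRoot cs isCartan a → bf a a = 4 → LR R a) (hgen : RGD.B cs isCartan T X ⊔ NN cs R.nsys = ⊤)
    (hT : ∀ i, ∀ t ∈ T, ∀ u ∈ X (sr i), u ≠ 1 → t * u * t⁻¹ = u → ∀ v ∈ X (sr i), t * v * t⁻¹ = v)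
    (hcard3 : Nat.card (X (sr 0)) < Nat.card (X (sr 3)))
    (hcard2 : Nat.card (X (sr 2)) = Nat.card (X (sr 0)) ^ 2) : H27.AH.NotA p Y := by
  classical
  have hWf : Finite W := finiteW cs
  have hcore := H330.ClassLacedRGD.core_eq_bot R hgen
  obtain ⟨hN, cs', hcs, hW, hS⟩ := exists_setup R hgen hcore
  have hC : Cox cs' := inferInstance
  have : Fintype (Y ⧸ (R.bnPair hgen).B) := Fintype.ofFinite _
  have hne : (R.bnPair hgen).S.Nonempty := ⟨n 0, 0, rfl⟩
  have hsp : FixBN.HasSplit p Y := ⟨_, _, hne, hS⟩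
  have hth : (Bl R hgen cs' hcs).Thick := thick (R.bnPair hgen) (eS R hgen) cs' hcs
  have htr : ∀ x y : Y ⧸ (R.bnPair hgen).B, ∃ g : Y, g • x = y := fun x y => MulAction.exists_smul_eq Y x y
  intro a b c ha hb hc h hpa hpb hpc
  -- the two sets of nodes
  have key : ∀ g : Y, g ≠ 1 → ¬ p ∣ orderOf g → ∃ K : Finset (Fin 4),
      (∀ i ∈ dset K, DT (Sy R hgen cs' hcs hcore) g i) ∧ ∀ i ∈ pset K, DP (Sy R hgen cs' hcs hcore) g i := by
    intro g hg hpg
    obtain ⟨K, x, hm⟩ := exists_gMin R hgen g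
    have hmin : MinRes (Bl R hgen cs' hcs) g K (ch R hgen x) := (minRes_iff R hgen cs' hcs).2 hm
    have hpx : ¬ p ∣ orderOf (x⁻¹ * g * x) := by
      have e : x⁻¹ * g * x = x⁻¹ * g * x⁻¹⁻¹ := by rw [inv_inv]
      rwa [e, orderOf_conj']
    have hx1 : x⁻¹ * g * x ≠ 1 := by
      intro h0
      apply hg
      have : g = x * (x⁻¹ * g * x) * x⁻¹ := by group
      rw [this, h0]; group
    have e : x * (x⁻¹ * g * x) * x⁻¹ = g := by group
    have hd : ∀ i ∈ dset K, DT (Sy R hgen cs' hcs hcore) g i := by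
      intro i hi
      by_cases h0 : K = ∅
      · subst h0
        obtain ⟨h2, h3⟩ := dt_empty R lr hgen cs' hcs hcore hcard3 hT hx1 hpx hm
        have h2' := h2.conj x
        have h3' := h3.conj x
        rw [e] at h2' h3'
        unfold dset at hi
        rw [if_pos rfl] at hi
        rcases (by simpa using hi : i = 2 ∨ i = 3) with rfl | rfl
        · exact h2'
        · exact h3'
      by_cases h01 : K = {0, 1}
      · subst h01
        have h2 := (dt_plane R lr hgen cs' hcs hcore hcard2 hpx hm).conj x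
        rw [e] at h2
        have hi' : i ∈ ({0, 1, 2} : Finset (Fin 4)) := by
          revert hi
          revert i
          decide +kernel
        rcases (by simpa using hi' : i = 0 ∨ i = 1 ∨ i = 2) with rfl | rfl | rfl
        · exact hmin.dt (Sy R hgen cs' hcs hcore) hth htr hpg (by decide)
        · exact hmin.dt (Sy R hgen cs' hcs hcore) hth htr hpg (by decide)
        · exact h2
      · exact dt_of_hit (Sy R hgen cs' hcs hcore) hth htr hmin hpg (hit_of_dset h0 h01 hi)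
    refine ⟨K, hd, fun i hi => ?_⟩
    by_cases hK : K = {0} ∨ K = {1}
    · unfold pset at hi
      rw [if_pos hK] at hi
      rcases (by simpa using hi : i = 0 ∨ i = 1 ∨ i = 2) with rfl | rfl | rfl
      · exact (hd 0 (by rcases hK with rfl | rfl <;> decide +kernel)).dp hth
      · exact (hd 1 (by rcases hK with rfl | rfl <;> decide +kernel)).dp hth
      · have h2 := DP.conj R hgen cs' hcs hcore (dp_line R lr hgen cs' hcs hcore hcard3 hpx hK hm) x
        rwa [e] at h2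
    · unfold pset at hi
      rw [if_neg hK] at hi
      exact (hd i hi).dp hth
  obtain ⟨K, hKd, hKp⟩ := key a ha hpa
  obtain ⟨L, hLd, hLp⟩ := key b hb hpb
  obtain ⟨i, ⟨h1, h2⟩ | ⟨h1, h2⟩⟩ := comb K L
  · exact clash htr hsp h hpa hpb (hKd i h1) (hLp i h2)
  · exact clash htr hsp h.symm hpb hpa (hLd i h2) (hKp i h1)

end Cfsg.Agent.H743.AH.SixD

private theorem dce_bffe1e9e9f34 : _root_.True := by
  try have : _root_.True := by simp only [_root_.Cfsg.Agent.Nodes.Reps.Rp.congr_simp]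
  exact _root_.True.intro
end

-- part: H743/AH/SixRow
section
prune_inst 0x40002022000000000000420000204000019000204001600000400841210000000100068000000042228000000008111000400200000000000000000000000001000000100c00000000000004000000000000000000000000000000000000000000000
set_option linter.all false
open scoped Cfsg.Agent.FastGrp

/-!
# Products of two `p`-regular classes: `²E₆(q)` (helper743)
-/

set_option autoImplicit false
set_option linter.unusedSectionVars false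

namespace Cfsg.Agent.H743.AH.SixRow

open Cfsg Cfsg.Lie CoxeterSystem Cfsg.Agent.ChevalleyStructure.CoxeterGeom Cfsg.Agent.Tits.Roots Cfsg.Agent.Tits.Core
  Cfsg.Agent.Tits.RootComb Cfsg.Agent.Nodes.Reps Cfsg.Agent.Nodes.BNOf
  Cfsg.Agent.Nodes.RGDTwE6 Cfsg.Agent.KFacts.TwESix.Comb Cfsg.Agent.KFacts.TwESix Cfsg.Agent.KFacts.RgdField

/-- **`²E₆(q)`: no two `p`-regular classes whose product is a `p`-regular class.** -/
theorem notA_twE6 (K : Type) [Field K] [Fintype K] (p : ℕ) [CharP K p] (q : ℕ) (hq : IsPrimePow q)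
    (hK : Fintype.card K = q ^ 2) : H27.AH.NotA p ↥(Lie.twistedE6 K q) := by
  have hpp : Fact p.Prime := ⟨CharP.char_is_prime K p⟩
  obtain ⟨φ, hφ, hqq⟩ := ChevalleyStructure.TwE6Basic.exists_frob hq hK
  have hsim : IsSimpleGroup ↥(twistedE6 K q) := (S1070.result hq hK).1
  set cs := CoxeterMatrix.F₄.toCoxeterSystem with hcs
  set R := rgd cs hφ hqq p with hR
  have hgen := Nodes.RGDLib.rgd_gen_of_G1 R (G1_eq_top cs hφ hqq)
  have hq1 : 1 < q := hq.one_lt
  have c0 := H568.OwnCharTw.card_X cs hφ hqq hK hq1 p (isRoot_sr cs isCartan 0)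
  have c2 := H568.OwnCharTw.card_X cs hφ hqq hK hq1 p (isRoot_sr cs isCartan 2)
  have c3 := H568.OwnCharTw.card_X cs hφ hqq hK hq1 p (isRoot_sr cs isCartan 3)
  rw [if_pos sr_norm.1, pow_one] at c0
  rw [if_neg (by rw [sr_norm.2.2.1]; norm_num)] at c2
  rw [if_neg (by rw [sr_norm.2.2.2]; norm_num)] at c3
  refine SixD.notA_rgd R (fun a ha hl => Grp.lr_long cs hφ hqq p ha hl) hgen ?_ ?_ ?_
  · intro i t ht u hu hu1 htu v hv
    have C := Out.coordE hφ hqq i
    obtain ⟨a, rfl⟩ := (C.mem u).1 hu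
    obtain ⟨b, rfl⟩ := (C.mem v).1 hv
    rw [C.act t ht] at htu
    have h1 := C.inj htu
    have ha : a ≠ 0 := by
      rintro rfl
      exact hu1 C.zero
    have h2 : Out.chE hφ hqq i t = 1 := mul_right_cancel₀ ha (by rw [h1, one_mul])
    rw [C.act t ht, h2, one_mul]
  · rw [c0, c3]
    nlinarith
  · rw [c2, c0]

end Cfsg.Agent.H743.AH.SixRow
end
end
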